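import Cfsg.Agent.Mrg.Omega.NO3S.Fld.LLessA
import Cfsg.Agent.Mrg.Omega.NO3S.Fld.LDih
import Cfsg.Agent.Mrg.Omega.NO3S.Fld.FourBase

section


/-!
# Fld, `q = 4` : one offender (the W-stage of `CaseL`)

* `B5 S P P2 R V3 z` : `B4` with the FF-LEMMA weakened to `O₂(P₂) ≰ C(R)`;
* `O5 S P P2 A` : `A ≤ S`, `A ≰ O₂(P₂)`, acts quadratically on `U = ⟨V^P₂⟩`, `|Y : C_Y(A)| ≤ |A : C_A(Y)|` for all `Y ≤ U`.
-/

set_option autoImplicit false
set_option linter.unusedSectionVars false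

namespace Cfsg.Agent.Omega.NO3S.Fld.WFour

open Subgroup Cfsg Cfsg.Agent.ZN Cfsg.Agent.ZN.ChoiceBase Cfsg.Agent.Omega.MinPar Cfsg.Agent.Omega.FrameNOFF
open Cfsg.Agent.ZN.ChoiceSit (Syl syl_iff syl_not_dvd o2_le_syl isPGroup_o2)
open Cfsg.Agent.MinSimple.MinParabolic (IsMinPar)
open Cfsg.Agent.MinSimple.VModule (oddGen oddGen_le mem_oddGen le_normalizer_oddGen le_normalizer_o2 o2_le
  zc_le zc_le_zl le_normalizer_zl zc_sq zc_comm le_centralizer_zc)
open Cfsg.Agent.Omega.NO3b.EZero (cl cj_le_cl le_cl cl_le cj_cl le_normalizer_cl cent_symm cj_cent cj_norm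
  sq_of_comm oddGen_sup_syl mem_cj_self relIndex_cj le_normalizer_inf_cent)
open Cfsg.Agent.Omega.NO3b.K0 (conj_mem' cj_of_le cj_self NoOv noOv)
open Cfsg.Agent.Omega.NO3S.NotFF (le_normalizer_of_forall normalizer_inf normalizer_sup normalizer_centralizer
  normalizer_commutator)
open Cfsg.Agent.Omega.SQ1.Bau (card_sup_comm mem_sup_comm)
open Cfsg.Agent.Omega.NO1.BestOff (Best)
open Cfsg.Agent.Omega.FFThm (ElemM)
open scoped commutatorElement

universe u

/-- **The situation** (`q = 4`, no level, no FF-LEMMA). -/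
structure B5 {G : Type u} [Group G] [Finite G] (S : Sylow 2 G) (P P2 R V3 : Subgroup G) (z : G) : Prop where
  hyp : Hyp S P
  mod : DEight.Mod (S : Subgroup G) (zl (S : Subgroup G) P) R V3 z
  fix4 : ∀ b ∈ (S : Subgroup G), b ∉ centralizer (zl (S : Subgroup G) P : Set G) →
    Nat.card ↥(zl (S : Subgroup G) P ⊓ centralizer ({b} : Set G)) ≤ 4
  zS : zc (S : Subgroup G) = zpowers z
  par : IsPar (S : Subgroup G) P2
  le : P2 ≤ CZ (S : Subgroup G)
  mv : ¬ P2 ≤ normalizer (R : Set G)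
  nQR : ¬ o2 P2 ≤ centralizer (R : Set G)

/-- **One offender on `U = ⟨V^P₂⟩`.** -/
structure O5 {G : Type u} [Group G] [Finite G] (S : Sylow 2 G) (P P2 A : Subgroup G) : Prop where
  le : A ≤ (S : Subgroup G)
  elem : ElemM (cl (zl (S : Subgroup G) P) P2) A
  off : ∀ Y ≤ cl (zl (S : Subgroup G) P) P2,
    (centralizer (A : Set G)).relIndex Y ≤ (centralizer (Y : Set G)).relIndex A
  nQ : ¬ A ≤ o2 P2
  quad : ∀ u ∈ cl (zl (S : Subgroup G) P) P2, ∀ a ∈ A, a * u * a⁻¹ * u⁻¹ ∈ centralizer (A : Set G)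

namespace O5

variable {G : Type u} [Group G] [Finite G] {S : Sylow 2 G} {P P2 A : Subgroup G} (o : O5 S P P2 A)
include o

theorem index_le : (centralizer (A : Set G)).relIndex (cl (zl (S : Subgroup G) P) P2) ≤
    (centralizer (cl (zl (S : Subgroup G) P) P2 : Set G)).relIndex A := o.off _ le_rfl

/-- `|Y| |C_U(Y)| ≤ |A| |C_U(A)|` -/
theorem max (Y : Subgroup G) (hY : Y ≤ A) :
    Nat.card Y * Nat.card ↥(cl (zl (S : Subgroup G) P) P2 ⊓ centralizer (Y : Set G)) ≤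
      Nat.card A * Nat.card ↥(cl (zl (S : Subgroup G) P) P2 ⊓ centralizer (A : Set G)) := by
  set U := cl (zl (S : Subgroup G) P) P2 with hU
  have h1 := FFThm.relIndex_le_iff.2 (o.off (U ⊓ centralizer (Y : Set G)) inf_le_left)
  have h2 : (U ⊓ centralizer (Y : Set G)) ⊓ centralizer (A : Set G) = U ⊓ centralizer (A : Set G) := by
    apply le_antisymm
    · exact fun x hx => ⟨hx.1.1, hx.2⟩
    · exact fun x hx => ⟨⟨hx.1, centralizer_le hY hx.2⟩, hx.2⟩
  rw [h2] at h1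
  have h3 : Y ≤ A ⊓ centralizer ((U ⊓ centralizer (Y : Set G) : Subgroup G) : Set G) :=
    le_inf hY (cent_symm inf_le_right)
  have h4 := Subgroup.card_le_of_le h3
  refine le_trans ?_ h1
  rw [mul_comm]
  exact Nat.mul_le_mul_left _ h4

end O5

namespace B5

variable {G : Type u} [Group G] [Finite G] {S : Sylow 2 G} {P P2 R V3 : Subgroup G} {z : G}
  (h : B5 S P P2 R V3 z)
include h

theorem syl : Syl (S : Subgroup G) P2 :=
  ⟨h.par.le, S.isPGroup', fun _ _ hT hST => S.is_maximal' hT hST⟩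

theorem S_le : (S : Subgroup G) ≤ P2 := h.par.le

theorem Q_le : o2 P2 ≤ (S : Subgroup G) := o2_le_syl h.syl

theorem L_le : o2 P ≤ (S : Subgroup G) := h.hyp.star.isLoc.o2_le S

theorem V_le_S : zl (S : Subgroup G) P ≤ (S : Subgroup G) := h.hyp.V_le_S

theorem R_le_V : R ≤ zl (S : Subgroup G) P := h.mod.R_le.trans h.mod.V3_le

theorem z_mem_R : z ∈ R := h.mod.z_mem

theorem z_comm {g : G} (hg : g ∈ P2) : g * z = z * g := by
  have h1 : z ∈ zc (S : Subgroup G) := by rw [h.zS]; exact mem_zpowers z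
  exact (mem_centralizer_iff.1 (h.le hg) z h1).symm

theorem z_comm_zpowers {g w : G} (hg : g ∈ P2) (hw : w ∈ zpowers z) : g * w * g⁻¹ = w := by
  obtain ⟨n, rfl⟩ := mem_zpowers_iff.1 hw
  have h1 : Commute g z := h.z_comm hg
  exact mul_inv_eq_iff_eq_mul.2 (h1.zpow_right n).eq

theorem P2_zpowers : P2 ≤ normalizer (zpowers z : Set G) :=
  le_normalizer_of_forall fun g hg w hw => by rw [h.z_comm_zpowers hg hw]; exact hw

theorem zpowers_le_R : zpowers z ≤ R := zpowers_le.2 h.z_mem_R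

theorem z_sq : z * z = 1 := by
  have := h.mod.sq z (h.R_le_V h.z_mem_R)
  rwa [pow_two] at this

theorem mem_zpowers_iff' {g : G} : g ∈ zpowers z ↔ g = 1 ∨ g = z := by
  constructor
  · intro hg
    obtain ⟨n, rfl⟩ := mem_zpowers_iff.1 hg
    rcases Int.even_or_odd' n with ⟨k, rfl | rfl⟩
    · left
      rw [zpow_mul, zpow_ofNat, pow_two, h.z_sq, one_zpow]
    · right
      rw [zpow_add, zpow_mul, zpow_ofNat, pow_two, h.z_sq, one_zpow, one_mul, zpow_one]
  · rintro (rfl | rfl)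
    · exact one_mem _
    · exact mem_zpowers _

/-- `U = ⟨V^P₂⟩ ≤ W` -/
theorem U_le_WW : cl (zl (S : Subgroup G) P) P2 ≤ WW (S : Subgroup G) P :=
  cl_le fun _ hp => conj_zl_le_WW (h.le hp)

theorem U_comm : cl (zl (S : Subgroup G) P) P2 ≤ centralizer (cl (zl (S : Subgroup G) P) P2 : Set G) :=
  (h.U_le_WW.trans h.hyp.W_comm).trans (centralizer_le h.U_le_WW)

theorem U_sq : ∀ u ∈ cl (zl (S : Subgroup G) P) P2, u ^ 2 = 1 := fun u hu => h.hyp.W_sq u (h.U_le_WW hu)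

theorem U_norm : P2 ≤ normalizer (cl (zl (S : Subgroup G) P) P2 : Set G) := le_normalizer_cl _ _

theorem X_norm : P2 ≤ normalizer (cl R P2 : Set G) := le_normalizer_cl _ _

theorem X_le_U : cl R P2 ≤ cl (zl (S : Subgroup G) P) P2 :=
  cl_le fun _ hp => (cj_mono _ h.R_le_V).trans (cj_le_cl hp)

theorem V_le_U : zl (S : Subgroup G) P ≤ cl (zl (S : Subgroup G) P) P2 := le_cl _ _

theorem R_le_X : R ≤ cl R P2 := le_cl _ _

theorem U_le_P2 : cl (zl (S : Subgroup G) P) P2 ≤ P2 := cl_le fun p hp => by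
  have h1 := cj_mono p (h.V_le_S.trans h.S_le)
  rwa [cj_self hp] at h1

theorem U_two : IsPGroup 2 (cl (zl (S : Subgroup G) P) P2) := fun x =>
  ⟨1, Subtype.ext (by simpa using h.U_sq x x.2)⟩

theorem U_le_Q : cl (zl (S : Subgroup G) P) P2 ≤ o2 P2 := ChoiceSit.le_o2 h.U_two h.U_le_P2 h.U_norm

theorem X_le_Q : cl R P2 ≤ o2 P2 := h.X_le_U.trans h.U_le_Q

theorem U_le_S : cl (zl (S : Subgroup G) P) P2 ≤ (S : Subgroup G) := h.U_le_Q.trans h.Q_le

theorem X_le_S : cl R P2 ≤ (S : Subgroup G) := h.X_le_Q.trans h.Q_le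

theorem X_sq : ∀ u ∈ cl R P2, u ^ 2 = 1 := fun u hu => h.U_sq u (h.X_le_U hu)

theorem X_comm : cl R P2 ≤ centralizer (cl R P2 : Set G) :=
  (h.X_le_U.trans h.U_comm).trans (centralizer_le h.X_le_U)

/-- the dichotomy for normal subgroups of `P₂` -/
theorem min_or {N : Subgroup G} (hK : N ≤ P2) (hKn : P2 ≤ normalizer (N : Set G)) :
    oddGen P2 ≤ N ∨ (S : Subgroup G) ⊓ N ≤ o2 P2 :=
  Cfsg.Agent.Omega.NO3b.K0.min_or h.syl h.par.toIsMinPar hK hKn

theorem sup_S : oddGen P2 ⊔ (S : Subgroup G) = P2 := oddGen_sup_syl h.syl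

/-- `E` moves `R` -/
theorem E_R : ¬ oddGen P2 ≤ normalizer (R : Set G) := by
  intro h0
  apply h.mv
  rw [← h.sup_S]
  exact sup_le h0 h.mod.S_R

theorem E_cent_R : ¬ oddGen P2 ≤ centralizer (R : Set G) := fun h0 =>
  h.E_R (h0.trans (centralizer_le_normalizer _))

theorem not_S_le : ¬ (S : Subgroup G) ≤ o2 P2 := by
  intro h0
  apply h.par.not_le
  rw [le_antisymm h0 h.Q_le]
  exact le_normalizer_o2 P2

/-- `[R, S] ≤ ⟨z⟩` -/
theorem comm_RS {s r : G} (hs : s ∈ (S : Subgroup G)) (hr : r ∈ R) : s * r * s⁻¹ * r⁻¹ ∈ zpowers z := by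
  by_cases hr1 : r ∈ zpowers z
  · rw [h.z_comm_zpowers (h.S_le hs) hr1, mul_inv_cancel]
    exact one_mem _
  rw [h.mem_zpowers_iff'] at hr1
  push Not at hr1
  have hsr : s * r * s⁻¹ ∈ R := conj_mem' h.mod.S_R hs hr
  have hsr1 : s * r * s⁻¹ ≠ 1 := fun h0 => hr1.1 (conj_eq_one_iff.1 h0)
  have hrr : r * r = 1 := by
    have := h.mod.sq r (h.R_le_V hr)
    rwa [pow_two] at this
  rcases eq_of_card_four h.mod.cardR (fun v hv => h.mod.sq v (h.R_le_V hv)) h.z_mem_R h.mod.z_ne hr hr1.1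
    (Ne.symm hr1.2) hsr hsr1 with e | e | e
  · -- `s r s⁻¹ = z` is impossible
    exfalso
    apply hr1.2
    have h1 : r = s⁻¹ * (s * r * s⁻¹) * s := by group
    rw [h1, e]
    have h2 := h.z_comm (h.S_le hs)
    rw [mul_assoc, ← h2, inv_mul_cancel_left]
  · rw [e, mul_inv_cancel]; exact one_mem _
  · rw [e, mul_inv_cancel_right]
    exact mem_zpowers z

/-- `[X, Q] ≤ ⟨z⟩` -/
theorem comm_XQ {q x : G} (hq : q ∈ o2 P2) (hx : x ∈ cl R P2) : q * x * q⁻¹ * x⁻¹ ∈ zpowers z := by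
  have hX : cl R P2 ≤ normalizer (zpowers z : Set G) := (h.X_le_S.trans h.S_le).trans h.P2_zpowers
  have h1 : cl R P2 ≤ cmod (cl R P2) (o2 P2) (zpowers z) hX := by
    refine cl_le fun p hp => ?_
    have h2 : R ≤ cmod (cl R P2) (o2 P2) (zpowers z) hX := fun r hr =>
      ⟨h.R_le_X hr, fun q hq => h.comm_RS (h.Q_le hq) hr⟩
    have h3 := cj_mono p h2
    rwa [cj_of_le (norm_cmod h.X_norm (le_normalizer_o2 P2) h.P2_zpowers) hp] at h3
  exact (h1 hx).2 q hq

/-- `Q ≰ C(R)` -/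
theorem not_Q_R : ¬ o2 P2 ≤ centralizer (R : Set G) := h.nQR

theorem not_Q_V : ¬ o2 P2 ≤ centralizer (zl (S : Subgroup G) P : Set G) := fun h0 =>
  h.not_Q_R (h0.trans (centralizer_le h.R_le_V))

/-- `C_S(X) ≤ Q` -/
theorem inf_cent_X : (S : Subgroup G) ⊓ centralizer (cl R P2 : Set G) ≤ o2 P2 := by
  rcases h.min_or (N := P2 ⊓ centralizer (cl R P2 : Set G)) inf_le_left (le_normalizer_inf_cent h.X_norm) with h1 | h1
  · exact absurd ((h1.trans inf_le_right).trans (centralizer_le h.R_le_X)) h.E_cent_R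
  · exact (le_inf inf_le_left (inf_le_inf_right _ h.S_le)).trans h1

theorem inf_cent_U : (S : Subgroup G) ⊓ centralizer (cl (zl (S : Subgroup G) P) P2 : Set G) ≤ o2 P2 :=
  (inf_le_inf_left _ (centralizer_le h.X_le_U)).trans h.inf_cent_X

theorem mem_L_iff {x : G} (hx : x ∈ (S : Subgroup G)) : x ∈ o2 P ↔ x ∈ centralizer (zl (S : Subgroup G) P : Set G) := by
  rw [← h.hyp.inf_centralizer]
  exact ⟨fun h1 => h1.2, fun h1 => ⟨hx, h1⟩⟩

theorem kmod_UX_norm : P2 ≤ normalizer (kmod P2 (cl (zl (S : Subgroup G) P) P2) (cl R P2) h.U_norm h.X_norm : Set G) :=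
  norm_kmod h.U_norm h.X_norm

/-- `[V, S] ≤ V₃` -/
theorem comm_VS {s v : G} (hs : s ∈ (S : Subgroup G)) (hv : v ∈ zl (S : Subgroup G) P) :
    s * v * s⁻¹ * v⁻¹ ∈ V3 := by
  have hidx : (V3.subgroupOf (zl (S : Subgroup G) P)).index = 2 := by
    have h1 := relIndex_mul_card (zl (S : Subgroup G) P) V3
    rw [inf_eq_right.2 h.mod.V3_le, h.mod.cardV3, h.mod.card] at h1
    change V3.relIndex (zl (S : Subgroup G) P) = 2
    omega
  have hsv : s * v * s⁻¹ ∈ zl (S : Subgroup G) P := conj_mem' h.mod.S_V hs hv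
  have h2 := Subgroup.mul_mem_iff_of_index_two hidx (a := ⟨s * v * s⁻¹, hsv⟩) (b := ⟨v⁻¹, inv_mem hv⟩)
  rw [mem_subgroupOf, mem_subgroupOf, mem_subgroupOf] at h2
  refine h2.2 ?_
  change s * v * s⁻¹ ∈ V3 ↔ v⁻¹ ∈ V3
  rw [inv_mem_iff]
  constructor
  · intro h3
    have h4 := conj_mem' h.mod.S_V3 (inv_mem hs) h3
    have e : s⁻¹ * (s * v * s⁻¹) * s⁻¹⁻¹ = v := by group
    rwa [e] at h4
  · exact fun h3 => conj_mem' h.mod.S_V3 hs h3

/-- `[V₃, S] ≤ R` -/
theorem comm_V3S {s v : G} (hs : s ∈ (S : Subgroup G)) (hv : v ∈ V3) : s * v * s⁻¹ * v⁻¹ ∈ R := by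
  have hidx : (R.subgroupOf V3).index = 2 := by
    have h1 := relIndex_mul_card V3 R
    rw [inf_eq_right.2 h.mod.R_le, h.mod.cardV3, h.mod.cardR] at h1
    change R.relIndex V3 = 2
    omega
  have hsv : s * v * s⁻¹ ∈ V3 := conj_mem' h.mod.S_V3 hs hv
  have h2 := Subgroup.mul_mem_iff_of_index_two hidx (a := ⟨s * v * s⁻¹, hsv⟩) (b := ⟨v⁻¹, inv_mem hv⟩)
  rw [mem_subgroupOf, mem_subgroupOf, mem_subgroupOf] at h2
  refine h2.2 ?_
  change s * v * s⁻¹ ∈ R ↔ v⁻¹ ∈ R
  rw [inv_mem_iff]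
  constructor
  · intro h3
    have h4 := conj_mem' h.mod.S_R (inv_mem hs) h3
    have e : s⁻¹ * (s * v * s⁻¹) * s⁻¹⁻¹ = v := by group
    rwa [e] at h4
  · exact fun h3 => conj_mem' h.mod.S_R hs h3

theorem exists_f : ∃ f ∈ V3, f ∉ R := by
  by_contra hcon
  push Not at hcon
  have h1 := Subgroup.card_le_of_le (show V3 ≤ R from hcon)
  rw [h.mod.cardV3, h.mod.cardR] at h1
  omega

/-- `V₃ = R ∪ f R` -/
theorem V3_cases {f v : G} (hf : f ∈ V3) (hfR : f ∉ R) (hv : v ∈ V3) : v ∈ R ∨ ∃ r ∈ R, v = f * r := by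
  by_cases hvR : v ∈ R
  · exact Or.inl hvR
  right
  have hidx : (R.subgroupOf V3).index = 2 := by
    have h1 := relIndex_mul_card V3 R
    rw [inf_eq_right.2 h.mod.R_le, h.mod.cardV3, h.mod.cardR] at h1
    change R.relIndex V3 = 2
    omega
  have h2 := Subgroup.mul_mem_iff_of_index_two hidx (a := ⟨f⁻¹, inv_mem hf⟩) (b := ⟨v, hv⟩)
  rw [mem_subgroupOf, mem_subgroupOf, mem_subgroupOf] at h2
  have h3 : f⁻¹ * v ∈ R := h2.2 (by
    change f⁻¹ ∈ R ↔ v ∈ R
    rw [inv_mem_iff]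
    exact ⟨fun h4 => absurd h4 hfR, fun h4 => absurd h4 hvR⟩)
  exact ⟨_, h3, by group⟩

/-- `P₂` normalises `V₃` ⟹ `|S : Q| = 2` -/
theorem index_of_V3 (hn : P2 ≤ normalizer (V3 : Set G)) : (o2 P2).relIndex (S : Subgroup G) = 2 := by
  have h1 : oddGen P2 ≤ kmod P2 V3 (zpowers z) hn h.P2_zpowers ∨
      (S : Subgroup G) ⊓ kmod P2 V3 (zpowers z) hn h.P2_zpowers ≤ o2 P2 :=
    h.min_or kmod_le (norm_kmod hn h.P2_zpowers)
  have h2 : (S : Subgroup G) ⊓ kmod P2 V3 (zpowers z) hn h.P2_zpowers ≤ o2 P2 := by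
    refine h1.resolve_left fun h0 => h.E_R ?_
    refine le_normalizer_of_forall fun e he r hr => ?_
    have h3 := (h0 he).2 r (h.mod.R_le hr)
    have h4 := mul_mem (h.zpowers_le_R h3) hr
    rwa [inv_mul_cancel_right] at h4
  obtain ⟨f, hf, hfR⟩ := h.exists_f
  have hmem : ∀ s ∈ (S : Subgroup G), s * f * s⁻¹ * f⁻¹ ∈ zpowers z → s ∈ o2 P2 := by
    intro s hs hsf
    refine h2 ⟨hs, h.S_le hs, fun v hv => ?_⟩
    rcases h.V3_cases hf hfR hv with hv | ⟨r, hr, rfl⟩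
    · exact h.comm_RS hs hv
    · have h3 := h.comm_RS hs hr
      have e : s * (f * r) * s⁻¹ * (f * r)⁻¹ = (s * f * s⁻¹ * f⁻¹) * (f * (s * r * s⁻¹ * r⁻¹) * f⁻¹) := by group
      have e2 : f * (s * r * s⁻¹ * r⁻¹) * f⁻¹ = s * r * s⁻¹ * r⁻¹ :=
        h.z_comm_zpowers (h.S_le (h.V_le_S (h.mod.V3_le hf))) h3
      rw [e, e2]
      exact mul_mem hsf h3
  have h3 : (o2 P2).relIndex (S : Subgroup G) ≤ 2 := by
    refine relIndex_le_two fun s hs t ht hsQ htQ => hmem _ (mul_mem hs ht) ?_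
    have hs1 : s * f * s⁻¹ * f⁻¹ ∉ zpowers z := fun h0 => hsQ (hmem s hs h0)
    have ht1 : t * f * t⁻¹ * f⁻¹ ∉ zpowers z := fun h0 => htQ (hmem t ht h0)
    have hsR := h.comm_V3S hs hf
    have htR := h.comm_V3S ht hf
    have e : s * t * f * (s * t)⁻¹ * f⁻¹ = (s * (t * f * t⁻¹ * f⁻¹) * s⁻¹ * (t * f * t⁻¹ * f⁻¹)⁻¹) *
        ((t * f * t⁻¹ * f⁻¹) * (s * f * s⁻¹ * f⁻¹)) := by group
    rw [e]
    refine mul_mem (h.comm_RS hs htR) ?_
    rw [h.mem_zpowers_iff'] at hs1 ht1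
    push Not at hs1 ht1
    have hsq : ∀ v ∈ R, v ^ 2 = 1 := fun v hv => h.mod.sq v (h.R_le_V hv)
    have h5 := h.mod.sq _ (h.R_le_V htR)
    rw [pow_two] at h5
    rcases eq_of_card_four h.mod.cardR hsq h.z_mem_R h.mod.z_ne htR ht1.1 (Ne.symm ht1.2) hsR hs1.1 with e | e | e
    · exact absurd e hs1.2
    · rw [e, h5]; exact one_mem _
    · rw [e]
      have h6 : (t * f * t⁻¹ * f⁻¹) * z = z * (t * f * t⁻¹ * f⁻¹) :=
        h.z_comm (h.S_le (h.V_le_S (h.R_le_V htR)))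
      rw [← mul_assoc, h6, mul_assoc, h5, mul_one]
      exact mem_zpowers z
  have h4 : (o2 P2).relIndex (S : Subgroup G) ≠ 1 := fun h0 => h.not_S_le (relIndex_eq_one.1 h0)
  have h5 : (o2 P2).relIndex (S : Subgroup G) ≠ 0 := FiniteIndex.index_ne_zero (H := (o2 P2).subgroupOf S)
  omega

theorem loc1 : Loc (o2 P2) (zl (S : Subgroup G) P) R V3 z where
  comm := h.mod.comm
  sq := h.mod.sq
  card := h.mod.card
  cardR := h.mod.cardR
  cardV3 := h.mod.cardV3
  R_le := h.mod.R_le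
  V3_le := h.mod.V3_le
  z_mem := h.mod.z_mem
  z_ne := h.mod.z_ne
  small := fun b hb => h.mod.small b (h.Q_le hb)
  faith := fun b hb => h.mod.faith b (h.Q_le hb)
  nCentR := fun b hb => h.mod.nCentR b (h.Q_le hb)
  comm3 := fun _ hb _ hv => h.comm_VS (h.Q_le hb) hv
  commR := fun _ hb _ hv => h.comm_V3S (h.Q_le hb) hv
  commz := fun _ hb _ hv => h.comm_RS (h.Q_le hb) hv

theorem loc {y : G} (hy : y ∈ P2) : Loc (o2 P2) (cj y (zl (S : Subgroup G) P)) (cj y R) (cj y V3) z :=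
  h.loc1.conj (cj_of_le (le_normalizer_o2 P2) hy) (cj_of_le h.P2_zpowers hy) (h.z_comm hy)

theorem mem_zy {y w : G} (hy : y ∈ P2) : w ∈ zpowers z ↔ y⁻¹ * w * y ∈ zpowers z := by
  conv_lhs => rw [← cj_of_le h.P2_zpowers hy, mem_cj]

/-- `[V₃, Q] ≤ ⟨z⟩` is invariant -/
theorem hz_iff {y : G} (hy : y ∈ P2) : (∀ b ∈ o2 P2, ∀ v ∈ cj y V3, b * v * b⁻¹ * v⁻¹ ∈ zpowers z) ↔
    ∀ b ∈ o2 P2, ∀ v ∈ V3, b * v * b⁻¹ * v⁻¹ ∈ zpowers z := by
  constructor
  · intro h1 b hb v hv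
    have hb' : y * b * y⁻¹ ∈ o2 P2 := conj_mem' (le_normalizer_o2 P2) hy hb
    have hv' : y * v * y⁻¹ ∈ cj y V3 := by
      rw [mem_cj]
      have e : y⁻¹ * (y * v * y⁻¹) * y = v := by group
      rwa [e]
    have h2 := h1 _ hb' _ hv'
    rw [h.mem_zy hy, conj_comm'] at h2
    have e1 : y⁻¹ * (y * v * y⁻¹) * y = v := by group
    have e2 : y⁻¹ * (y * b * y⁻¹) * y = b := by group
    rwa [e1, e2] at h2
  · intro h1 b hb v hv
    rw [h.mem_zy hy, conj_comm']
    refine h1 _ ?_ _ (mem_cj.1 hv)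
    have := conj_mem' (le_normalizer_o2 P2) (inv_mem hy) hb
    rwa [inv_inv] at this

theorem U_z : cl (zl (S : Subgroup G) P) P2 ≤ normalizer (zpowers z : Set G) :=
  (h.U_le_S.trans h.S_le).trans h.P2_zpowers

/-- `U ∋ v` for `v ∈ V^y` -/
theorem cjV_le {y : G} (hy : y ∈ P2) : cj y (zl (S : Subgroup G) P) ≤ cl (zl (S : Subgroup G) P) P2 := cj_le_cl hy

/-- squares and commutators of `A` lie in `Q` -/
theorem A_o2 {A : Subgroup G} (o : O5 S P P2 A) :
    (∀ a ∈ A, a ^ 2 ∈ o2 P2) ∧ ∀ a ∈ A, ∀ b ∈ A, a * b * a⁻¹ * b⁻¹ ∈ o2 P2 := by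
  have hS := o.le
  refine ⟨fun a ha => h.inf_cent_U ⟨pow_mem (hS ha) 2, o.elem.sq a ha⟩, fun a ha b hb => h.inf_cent_U ⟨?_, ?_⟩⟩
  · exact (S : Subgroup G).mul_mem ((S : Subgroup G).mul_mem ((S : Subgroup G).mul_mem (hS ha) (hS hb))
      ((S : Subgroup G).inv_mem (hS ha))) ((S : Subgroup G).inv_mem (hS hb))
  · exact o.elem.comm a ha b hb

end B5

end Cfsg.Agent.Omega.NO3S.Fld.WFour

end

section


/-!
# Fld, `q = 4`, one offender : the case `[V₃, Q] ≤ ⟨z⟩` (port of `LLessA`)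

* `B5.normA` : `P₂ ≤ N_G(V₃)`.
-/

set_option autoImplicit false
set_option linter.unusedSectionVars false

namespace Cfsg.Agent.Omega.NO3S.Fld.WFour

open Subgroup Cfsg Cfsg.Agent.ZN Cfsg.Agent.ZN.ChoiceBase Cfsg.Agent.Omega.MinPar Cfsg.Agent.Omega.FrameNOFF
open Cfsg.Agent.ZN.ChoiceSit (Syl syl_iff syl_not_dvd o2_le_syl isPGroup_o2)
open Cfsg.Agent.MinSimple.MinParabolic (IsMinPar)
open Cfsg.Agent.MinSimple.VModule (oddGen oddGen_le mem_oddGen le_normalizer_oddGen le_normalizer_o2 o2_le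
  zc_le zc_le_zl le_normalizer_zl zc_sq zc_comm le_centralizer_zc)
open Cfsg.Agent.Omega.NO3b.EZero (cl cj_le_cl le_cl cl_le cj_cl le_normalizer_cl cent_symm cj_cent cj_norm
  sq_of_comm oddGen_sup_syl mem_cj_self relIndex_cj le_normalizer_inf_cent)
open Cfsg.Agent.Omega.NO3b.K0 (conj_mem' cj_of_le cj_self NoOv noOv)
open Cfsg.Agent.Omega.NO3S.NotFF (le_normalizer_of_forall normalizer_inf normalizer_sup normalizer_centralizer
  normalizer_commutator)
open Cfsg.Agent.Omega.SQ1.Bau (card_sup_comm mem_sup_comm)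
open Cfsg.Agent.Omega.NO1.BestOff (Best)
open Cfsg.Agent.Omega.FFThm (ElemM)
open scoped commutatorElement

universe u

namespace B5

variable {G : Type u} [Group G] [Finite G] {S : Sylow 2 G} {P P2 R V3 : Subgroup G} {z : G}
  (h : B5 S P P2 R V3 z)
include h

/-- `{u ∈ U | [u, B] ≤ ⟨z⟩}` -/
def nb (B : Subgroup G) : Subgroup G := cmod (cl (zl (S : Subgroup G) P) P2) B (zpowers z) h.U_z

theorem mem_nb {B : Subgroup G} {u : G} : u ∈ h.nb B ↔
    u ∈ cl (zl (S : Subgroup G) P) P2 ∧ ∀ b ∈ B, b * u * b⁻¹ * u⁻¹ ∈ zpowers z := Iff.rfl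

theorem nb_le (B : Subgroup G) : h.nb B ≤ cl (zl (S : Subgroup G) P) P2 := fun _ hu => hu.1

theorem nb_anti {B B' : Subgroup G} (hB : B ≤ B') : h.nb B' ≤ h.nb B := fun _ hu => ⟨hu.1, fun b hb => hu.2 b (hB hb)⟩

theorem P2_nb : P2 ≤ normalizer (h.nb (o2 P2) : Set G) := norm_cmod h.U_norm (le_normalizer_o2 P2) h.P2_zpowers

theorem X_le_nb : cl R P2 ≤ h.nb (o2 P2) := fun _ hx => ⟨h.X_le_U hx, fun _ hb => h.comm_XQ hb hx⟩

theorem U_mul {u v : G} (hu : u ∈ cl (zl (S : Subgroup G) P) P2) (hv : v ∈ cl (zl (S : Subgroup G) P) P2) :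
    u * v = v * u := mem_centralizer_iff.1 (h.U_comm hv) u hu

theorem U_sq' {u : G} (hu : u ∈ cl (zl (S : Subgroup G) P) P2) : u * u = 1 := by
  have := h.U_sq u hu
  rwa [pow_two] at this

/-- `[b, u v] = [b, u] [b, v]` -/
theorem comm_mul {b u v : G} (hb : b ∈ P2) (hu : u ∈ cl (zl (S : Subgroup G) P) P2)
    (hv : v ∈ cl (zl (S : Subgroup G) P) P2) :
    b * (u * v) * b⁻¹ * (u * v)⁻¹ = (b * u * b⁻¹ * u⁻¹) * (b * v * b⁻¹ * v⁻¹) := by
  have h1 : b * v * b⁻¹ * v⁻¹ ∈ cl (zl (S : Subgroup G) P) P2 := mul_mem (conj_mem' h.U_norm hb hv) (inv_mem hv)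
  have h2 := h.U_mul hu h1
  have e : b * (u * v) * b⁻¹ * (u * v)⁻¹ = (b * u * b⁻¹ * u⁻¹) * (u * (b * v * b⁻¹ * v⁻¹) * u⁻¹) := by group
  rw [e, h2, mul_inv_cancel_right]

/-- the index of `C_A(U)` -/
theorem relIndex_U {A : Subgroup G} (hA : A ≤ (S : Subgroup G)) :
    (centralizer (cl (zl (S : Subgroup G) P) P2 : Set G)).relIndex (A ⊓ o2 P2) * (o2 P2).relIndex A =
      (centralizer (cl (zl (S : Subgroup G) P) P2 : Set G)).relIndex A := by
  have h1 := relIndex_mul_of (H := centralizer (cl (zl (S : Subgroup G) P) P2 : Set G)) (M := A ⊓ o2 P2) (L := A)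
    (fun a ha => ⟨ha.1, h.inf_cent_U ⟨hA ha.1, ha.2⟩⟩) inf_le_left
  rw [inf_relIndex_left] at h1
  exact h1

/-- `|A₀ : C_{A₀}(W)| |A : A₀| = |A : C_A(W)|` for `X ≤ W` -/
theorem relIndex_W {A W : Subgroup G} (hA : A ≤ (S : Subgroup G)) (hW : cl R P2 ≤ W) :
    (centralizer (W : Set G)).relIndex (A ⊓ o2 P2) * (o2 P2).relIndex A = (centralizer (W : Set G)).relIndex A := by
  have h1 := relIndex_mul_of (H := centralizer (W : Set G)) (M := A ⊓ o2 P2) (L := A)
    (fun a ha => ⟨ha.1, h.inf_cent_X ⟨hA ha.1, centralizer_le hW ha.2⟩⟩) inf_le_left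
  rw [inf_relIndex_left] at h1
  exact h1

section A

variable (hz : ∀ b ∈ o2 P2, ∀ v ∈ V3, b * v * b⁻¹ * v⁻¹ ∈ zpowers z)
include hz

theorem hzy {y : G} (hy : y ∈ P2) : ∀ b ∈ o2 P2, ∀ v ∈ cj y V3, b * v * b⁻¹ * v⁻¹ ∈ zpowers z :=
  (h.hz_iff hy).2 hz

theorem cjV3_nb {y : G} (hy : y ∈ P2) : cj y V3 ≤ h.nb (o2 P2) := fun _ hv =>
  ⟨h.cjV_le hy (cj_mono y h.mod.V3_le hv), fun b hb => h.hzy hz hy b hb _ hv⟩

/-- `C_Q(K₀) = C_Q(U)` -/
theorem cent_nb {q : G} (hq : q ∈ o2 P2) (hc : q ∈ centralizer (h.nb (o2 P2) : Set G)) :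
    q ∈ centralizer (cl (zl (S : Subgroup G) P) P2 : Set G) := by
  have h1 : cl (zl (S : Subgroup G) P) P2 ≤ centralizer ({q} : Set G) := by
    refine cl_le fun y hy v hv => ?_
    rw [mem_centralizer_singleton_iff]
    have h2 := (h.loc hy).faith q hq (centralizer_le (h.cjV3_nb hz hy) hc)
    exact mem_centralizer_iff.1 h2 v hv
  rw [mem_centralizer_iff]
  exact fun u hu => mem_centralizer_singleton_iff.1 (h1 hu)

/-- `[U, E] ≤ K₀` ⟹ `P₂ ≤ N(V₃)` -/
theorem norm_of_E (hE : ⁅cl (zl (S : Subgroup G) P) P2, oddGen P2⁆ ≤ h.nb (o2 P2)) :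
    P2 ≤ normalizer (V3 : Set G) := by
  have hVX : P2 ≤ normalizer ((zl (S : Subgroup G) P ⊔ h.nb (o2 P2) : Subgroup G) : Set G) := by
    refine h.sup_S.ge.trans (sup_le ?_ (normalizer_sup h.mod.S_V (h.S_le.trans h.P2_nb)))
    refine le_normalizer_of_forall fun e he w hw => ?_
    have hwU : w ∈ cl (zl (S : Subgroup G) P) P2 := (sup_le h.V_le_U (h.nb_le _)) hw
    have h1 : e * w * e⁻¹ * w⁻¹ ∈ h.nb (o2 P2) := by
      have h2 := inv_mem (hE (commutator_mem_commutator hwU he))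
      rwa [commutatorElement_inv, commutatorElement_def] at h2
    have h2 := mul_mem (mem_sup_right (S := zl (S : Subgroup G) P) h1) hw
    rwa [inv_mul_cancel_right] at h2
  have hU : cl (zl (S : Subgroup G) P) P2 ≤ zl (S : Subgroup G) P ⊔ h.nb (o2 P2) := cl_le fun p hp => by
    have h1 := cj_mono p (le_sup_left (a := zl (S : Subgroup G) P) (b := h.nb (o2 P2)))
    rwa [cj_of_le hVX hp] at h1
  have hW : ⁅o2 P2, cl (zl (S : Subgroup G) P) P2⁆ ≤ V3 := by
    rw [commutator_le]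
    intro q hq u hu
    obtain ⟨v, hv, x, hx, rfl⟩ := mem_sup_comm (fun a ha b hb => h.U_mul (h.V_le_U ha) (h.nb_le _ hb)) (hU hu)
    have h1 := h.comm_VS (h.Q_le hq) hv
    have h2 := h.zpowers_le_R.trans h.mod.R_le (hx.2 q hq)
    rw [commutatorElement_def, h.comm_mul (h.S_le (h.Q_le hq)) (h.V_le_U hv) hx.1]
    exact mul_mem h1 h2
  set W := ⁅o2 P2, cl (zl (S : Subgroup G) P) P2⁆ with hWdef
  have hWn : P2 ≤ normalizer (W : Set G) := normalizer_commutator (le_normalizer_o2 P2) h.U_norm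
  have hWm : ∀ q ∈ o2 P2, ∀ v ∈ zl (S : Subgroup G) P, q * v * q⁻¹ * v⁻¹ ∈ W := fun q hq v hv => by
    have := commutator_mem_commutator hq (h.V_le_U hv)
    rwa [commutatorElement_def] at this
  have hWz : ¬ W ≤ zpowers z := by
    intro h0
    apply h.not_Q_V
    intro q hq
    exact h.mod.small q (h.Q_le hq) fun v hv => h0 (hWm q hq v hv)
  rcases h.mod.uni W (hW.trans h.mod.V3_le) (h.S_le.trans hWn) with h1 | h1 | h1 | h1 | h1
  · exact absurd (h1.le.trans bot_le) hWz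
  · exact absurd h1.le hWz
  · rw [h1] at hWn
    exact absurd hWn h.mv
  · rwa [h1] at hWn
  · have h2 := Subgroup.card_le_of_le hW
    rw [h1, h.mod.card, h.mod.cardV3] at h2
    omega

section quad

variable {A : Subgroup G} (o : O5 S P P2 A)

include o in
/-- `|A₀ : C_{A₀}(V^y)| ≤ 2` -/
theorem mul_cent {y s t : G} (hy : y ∈ P2) (hs : s ∈ A ⊓ o2 P2) (ht : t ∈ A ⊓ o2 P2)
    (hsV : s ∉ centralizer ((cj y (zl (S : Subgroup G) P) : Subgroup G) : Set G))
    (htV : t ∉ centralizer ((cj y (zl (S : Subgroup G) P) : Subgroup G) : Set G)) :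
    s * t ∈ centralizer ((cj y (zl (S : Subgroup G) P) : Subgroup G) : Set G) := by
  have l := h.loc hy
  have lz := h.hzy hz hy
  obtain ⟨v, hv, hv3⟩ := l.exists_v
  have hvU := h.cjV_le hy hv
  have h1 : s * v * s⁻¹ * v⁻¹ ∉ zpowers z := fun h0 => hsV (l.L1 lz hs.2 hv hv3 h0)
  have h2 : t * v * t⁻¹ * v⁻¹ ∉ zpowers z := fun h0 => htV (l.L1 lz ht.2 hv hv3 h0)
  have h3 := l.comm3 s hs.2 v hv
  have h4 := l.comm3 t ht.2 v hv
  have hts : s * (t * v * t⁻¹ * v⁻¹) = (t * v * t⁻¹ * v⁻¹) * s :=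
    mem_centralizer_iff.1 (o.quad v hvU t ht.1) s hs.1
  have h5 := l.L3 hs.2 hsV h3 h4 h1 h2 (l.L2 lz hs.2 hv) hts
  refine l.L1 lz (mul_mem hs.2 ht.2) hv hv3 ?_
  have e : s * t * v * (s * t)⁻¹ * v⁻¹ = (s * (t * v * t⁻¹ * v⁻¹) * s⁻¹) * (s * v * s⁻¹ * v⁻¹) := by group
  have h6 := l.sq _ (l.V3_le h3)
  rw [pow_two] at h6
  rw [inv_eq_of_mul_eq_one_right h6] at h5
  rw [e, hts, mul_inv_cancel_right]
  exact h5

include o in
/-- **`|B : C_B(U)| ≤ |U : nb B|`** -/
theorem lb : ∀ (n : ℕ) (B : Subgroup G), Nat.card B ≤ n → B ≤ A ⊓ o2 P2 →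
    (centralizer (cl (zl (S : Subgroup G) P) P2 : Set G)).relIndex B ≤
      (h.nb B).relIndex (cl (zl (S : Subgroup G) P) P2) := by
  intro n
  induction n with
  | zero =>
    intro B hB
    have := Nat.card_pos (α := B)
    omega
  | succ n ih =>
    intro B hBn hB
    set U := cl (zl (S : Subgroup G) P) P2 with hU
    by_cases hBU : B ≤ centralizer (U : Set G)
    · rw [relIndex_eq_one.2 hBU]
      exact relIndex_pos _ _
    obtain ⟨y, hy, hBy⟩ : ∃ y ∈ P2, ¬ B ≤ centralizer ((cj y (zl (S : Subgroup G) P) : Subgroup G) : Set G) := by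
      by_contra hcon
      push Not at hcon
      exact hBU (cent_symm (cl_le fun y hy => cent_symm (hcon y hy)))
    obtain ⟨b, hb, hbV⟩ := SetLike.not_le_iff_exists.1 hBy
    have l := h.loc hy
    have lz := h.hzy hz hy
    obtain ⟨v, hv, hv3⟩ := l.exists_v
    have hvU : v ∈ U := h.cjV_le hy hv
    set B1 := B ⊓ centralizer ((cj y (zl (S : Subgroup G) P) : Subgroup G) : Set G) with hB1
    have hB1B : B1 ≤ B := inf_le_left
    have h1 : Nat.card B1 < Nat.card B := by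
      refine lt_of_le_of_ne (Subgroup.card_le_of_le hB1B) fun h0 => ?_
      have h2 := Subgroup.eq_of_le_of_card_ge hB1B h0.ge
      exact hBy (inf_eq_left.1 h2)
    have h2 := ih B1 (by omega) (hB1B.trans hB)
    have h3 : B1.relIndex B ≤ 2 := by
      rw [hB1, inf_relIndex_left]
      exact relIndex_le_two fun s hs t ht hsV htV => h.mul_cent hz o hy (hB hs) (hB ht) hsV htV
    have h4 := relIndex_mul_of (H := centralizer (U : Set G)) (M := B1) (L := B)
      (le_inf inf_le_left (inf_le_right.trans (centralizer_le (h.cjV_le hy)))) hB1B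
    have h5 := relIndex_mul_relIndex (h.nb B) (h.nb B1) U (h.nb_anti hB1B) (h.nb_le _)
    have h6 : 2 ≤ (h.nb B).relIndex (h.nb B1) := by
      refine two_le_relIndex (v := v) ⟨hvU, fun c hc => ?_⟩ fun h0 => hbV (l.L1 lz (hB hb).2 hv hv3 (h0.2 b hb))
      have h7 := mem_centralizer_iff.1 hc.2 v hv
      rw [← h7, mul_inv_cancel_right, mul_inv_cancel]
      exact one_mem _
    rw [← h4, ← h5, mul_comm]
    exact Nat.mul_le_mul (h3.trans h6) h2

include o in
/-- **the count** -/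
theorem count_A (hN : NoOv P2) (hE : ¬ ⁅cl (zl (S : Subgroup G) P) P2, oddGen P2⁆ ≤ h.nb (o2 P2)) :
    (∀ u ∈ h.nb (o2 P2), u ∈ centralizer ((A ⊓ o2 P2 : Subgroup G) : Set G) → u ∈ centralizer (A : Set G)) ∧
    (∀ u ∈ cl (zl (S : Subgroup G) P) P2, (∀ a ∈ A, a * u * a⁻¹ * u⁻¹ ∈ h.nb (o2 P2)) → u ∈ h.nb (A ⊓ o2 P2)) ∧
    (h.nb (A ⊓ o2 P2)).relIndex (cl (zl (S : Subgroup G) P) P2) ≤
      (centralizer (cl (zl (S : Subgroup G) P) P2 : Set G)).relIndex (A ⊓ o2 P2) ∧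
    2 ≤ (centralizer (cl (zl (S : Subgroup G) P) P2 : Set G)).relIndex (A ⊓ o2 P2) := by
  set U := cl (zl (S : Subgroup G) P) P2 with hU
  set K0 := h.nb (o2 P2) with hK0
  set A0 := A ⊓ o2 P2 with hA0
  set C := centralizer (A : Set G) with hC
  set x := (o2 P2).relIndex A with hx
  set r := (centralizer (U : Set G)).relIndex A0 with hr
  have hAP : A ≤ P2 := o.le.trans h.S_le
  have hK0U : K0 ≤ U := h.nb_le _
  have h1 : r * x = (centralizer (U : Set G)).relIndex A := h.relIndex_U o.le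
  have h2 : C.relIndex U ≤ (centralizer (U : Set G)).relIndex A := o.index_le
  set M := K0 ⊔ (U ⊓ C) with hM
  have hMU : M ≤ U := sup_le hK0U inf_le_left
  have h3 : C.relIndex M * M.relIndex U = C.relIndex U := relIndex_mul_of le_sup_right hMU
  have h4 : C.relIndex K0 ≤ C.relIndex M := relIndex_le_of_le_right le_sup_left (relIndex_pos _ _).ne'
  have hUK : U ≤ normalizer (K0 : Set G) := h.U_le_P2.trans h.P2_nb
  have hMD : M ≤ cmod U A K0 hUK := by
    refine sup_le (fun k hk => ⟨hK0U hk, fun a ha => mul_mem (conj_mem' h.P2_nb (hAP ha) hk) (inv_mem hk)⟩) ?_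
    intro k hk
    refine ⟨hk.1, fun a ha => ?_⟩
    have := mem_centralizer_iff.1 hk.2 a ha
    rw [this, mul_inv_cancel_right, mul_inv_cancel]
    exact one_mem _
  have hDU : cmod U A K0 hUK ≤ U := fun _ hu => hu.1
  obtain ⟨hA2, hAc⟩ := h.A_o2 o
  have h5 : x ≤ (cmod U A K0 hUK).relIndex U := by
    refine hN.gen hK0U h.U_le_P2 h.U_sq h.U_comm h.P2_nb h.U_norm hE hAP hA2 hAc hDU ?_
    rw [commutator_le]
    intro d hd a ha
    have h6 := inv_mem (hd.2 a ha)
    have e : (a * d * a⁻¹ * d⁻¹)⁻¹ = ⁅d, a⁆ := by rw [commutatorElement_def]; group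
    rwa [e] at h6
  have h6 : (cmod U A K0 hUK).relIndex U ≤ M.relIndex U :=
    Nat.le_of_dvd (relIndex_pos _ _) (relIndex_dvd_of_le_left U hMD)
  have h7 : (centralizer (A0 : Set G)).relIndex K0 ≤ C.relIndex K0 :=
    Nat.le_of_dvd (relIndex_pos _ _) (relIndex_dvd_of_le_left K0 (centralizer_le inf_le_left))
  have h8 : r ≤ (centralizer (A0 : Set G)).relIndex K0 := by
    have h9 : r ≤ (centralizer (K0 : Set G)).relIndex A0 := by
      rw [hr, ← inf_relIndex_left A0, ← inf_relIndex_left A0 (centralizer (K0 : Set G))]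
      refine Nat.le_of_dvd (relIndex_pos _ _) (relIndex_dvd_of_le_left A0 ?_)
      exact fun a ha => ⟨ha.1, h.cent_nb hz ha.1.2 ha.2⟩
    refine h9.trans (pair_le h.z_sq (fun y hy => h.z_comm (h.U_le_P2 (hK0U hy))) fun b hb y hy => ?_)
    exact h.mem_zpowers_iff'.1 (hy.2 b hb.2)
  have hxpos : 0 < x := relIndex_pos _ _
  have hrpos : 0 < r := relIndex_pos _ _
  have h9 : C.relIndex K0 * M.relIndex U ≤ r * x := by
    calc C.relIndex K0 * M.relIndex U ≤ C.relIndex M * M.relIndex U := Nat.mul_le_mul_right _ h4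
      _ = C.relIndex U := h3
      _ ≤ _ := by rw [h1]; exact h2
  have h10 : C.relIndex K0 ≤ r := by
    have h11 : C.relIndex K0 * x ≤ r * x := (Nat.mul_le_mul_left _ (h5.trans h6)).trans h9
    exact Nat.le_of_mul_le_mul_right h11 hxpos
  have h11 : M.relIndex U ≤ x := by
    have h12 : r * M.relIndex U ≤ r * x := (Nat.mul_le_mul_right _ (h8.trans h7)).trans h9
    exact Nat.le_of_mul_le_mul_left h12 hrpos
  have h12 : x ≤ r := by
    have h13 : x ≤ (K0 ⊓ C).relIndex K0 := by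
      refine hN.gen (N := ⊥) (Y := K0) (D := K0 ⊓ C) bot_le (hK0U.trans h.U_le_P2) (fun y hy => h.U_sq y (hK0U hy))
        (hK0U.trans (h.U_comm.trans (centralizer_le hK0U))) (normalizer_eq_top (H := (⊥ : Subgroup G)) ▸ le_top) h.P2_nb ?_ hAP hA2 hAc
        inf_le_left ?_
      · intro h0
        have h14 := commutator_eq_bot_iff_le_centralizer.1 (le_bot_iff.1 h0)
        exact h.E_cent_R (cent_symm ((h.R_le_X.trans h.X_le_nb).trans h14))
      · rw [le_bot_iff, commutator_eq_bot_iff_le_centralizer]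
        exact inf_le_right
    rw [inf_relIndex_left] at h13
    exact h13.trans h10
  refine ⟨?_, ?_, ?_, ?_⟩
  · have h13 : K0 ⊓ C = K0 ⊓ centralizer (A0 : Set G) := by
      refine eq_of_relIndex (inf_le_inf_left _ (centralizer_le inf_le_left)) inf_le_left ?_
      rw [inf_relIndex_left, inf_relIndex_left]
      exact h10.trans h8
    intro u hu huA
    have h14 : u ∈ K0 ⊓ centralizer (A0 : Set G) := ⟨hu, huA⟩
    rw [← h13] at h14
    exact h14.2
  · have h13 : M = cmod U A K0 hUK := eq_of_relIndex hMD hDU (h11.trans h5)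
    intro u hu huA
    have h14 : u ∈ M := by rw [h13]; exact ⟨hu, huA⟩
    have h15 : M ≤ h.nb A0 := by
      refine sup_le (h.nb_anti inf_le_right) fun k hk => ⟨hk.1, fun a ha => ?_⟩
      have := mem_centralizer_iff.1 hk.2 a ha.1
      rw [this, mul_inv_cancel_right, mul_inv_cancel]
      exact one_mem _
    exact h15 h14
  · have h15 : M ≤ h.nb A0 := by
      refine sup_le (h.nb_anti inf_le_right) fun k hk => ⟨hk.1, fun a ha => ?_⟩
      have := mem_centralizer_iff.1 hk.2 a ha.1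
      rw [this, mul_inv_cancel_right, mul_inv_cancel]
      exact one_mem _
    exact ((Nat.le_of_dvd (relIndex_pos _ _) (relIndex_dvd_of_le_left U h15)).trans h11).trans h12
  · obtain ⟨a, ha, haQ⟩ := SetLike.not_le_iff_exists.1 o.nQ
    exact (two_le_relIndex ha haQ).trans h12

include o in
/-- **KEY** -/
theorem key (hle : (h.nb (A ⊓ o2 P2)).relIndex (cl (zl (S : Subgroup G) P) P2) ≤
      (centralizer (cl (zl (S : Subgroup G) P) P2 : Set G)).relIndex (A ⊓ o2 P2)) {y y' : G} (hy : y ∈ P2)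
    (hy' : y' ∈ P2) {p : G} (hp : p ∈ cj y V3) (hp' : p ∈ cj y' V3)
    (hpA : p ∉ centralizer ((A ⊓ o2 P2 : Subgroup G) : Set G)) : cj y V3 = cj y' V3 := by
  by_contra hne
  set U := cl (zl (S : Subgroup G) P) P2 with hU
  have l := h.loc hy
  have l' := h.loc hy'
  have lz := h.hzy hz hy
  have lz' := h.hzy hz hy'
  obtain ⟨v, hv, hv3⟩ := l.exists_v
  obtain ⟨v', hv', hv3'⟩ := l'.exists_v
  have hvU : v ∈ U := h.cjV_le hy hv
  have hvU' : v' ∈ U := h.cjV_le hy' hv'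
  obtain ⟨b, hb, hbp⟩ : ∃ b ∈ A ⊓ o2 P2, b * p ≠ p * b := by
    by_contra hcon
    push Not at hcon
    exact hpA (mem_centralizer_iff.2 hcon)
  have hbV : b ∉ centralizer ((cj y (zl (S : Subgroup G) P) : Subgroup G) : Set G) := fun h0 =>
    hbp (mem_centralizer_iff.1 h0 p (l.V3_le hp)).symm
  have hbV' : b ∉ centralizer ((cj y' (zl (S : Subgroup G) P) : Subgroup G) : Set G) := fun h0 =>
    hbp (mem_centralizer_iff.1 h0 p (l'.V3_le hp')).symm
  -- `C_{A₀}(p) = C_{A₀}(V^y) = C_{A₀}(V^y')`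
  have h1 : ∀ c ∈ A ⊓ o2 P2, c * p = p * c →
      c ∈ centralizer ((cj y (zl (S : Subgroup G) P) : Subgroup G) : Set G) := by
    intro c hc hcp
    by_contra hcV
    have h2 := mem_centralizer_iff.1 (h.mul_cent hz o hy hc hb hcV hbV) p (l.V3_le hp)
    rw [← mul_assoc, ← hcp, mul_assoc, mul_assoc] at h2
    exact hbp (mul_left_cancel h2).symm
  have h1' : ∀ c ∈ A ⊓ o2 P2, c * p = p * c →
      c ∈ centralizer ((cj y' (zl (S : Subgroup G) P) : Subgroup G) : Set G) := by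
    intro c hc hcp
    by_contra hcV
    have h2 := mem_centralizer_iff.1 (h.mul_cent hz o hy' hc hb hcV hbV') p (l'.V3_le hp')
    rw [← mul_assoc, ← hcp, mul_assoc, mul_assoc] at h2
    exact hbp (mul_left_cancel h2).symm
  set A0 := A ⊓ o2 P2 with hA0
  set B1 := A0 ⊓ centralizer ({p} : Set G) with hB1
  have hB1A : B1 ≤ A0 := inf_le_left
  have hB1p : ∀ c ∈ B1, c * p = p * c := fun c hc => mem_centralizer_singleton_iff.1 hc.2
  have h3 : B1.relIndex A0 ≤ 2 := by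
    rw [hB1, inf_relIndex_left]
    refine relIndex_le_two fun s hs t ht hsp htp => ?_
    rw [mem_centralizer_singleton_iff] at hsp htp ⊢
    have hsV : s ∉ centralizer ((cj y (zl (S : Subgroup G) P) : Subgroup G) : Set G) := fun h0 =>
      hsp (mem_centralizer_iff.1 h0 p (l.V3_le hp)).symm
    have htV : t ∉ centralizer ((cj y (zl (S : Subgroup G) P) : Subgroup G) : Set G) := fun h0 =>
      htp (mem_centralizer_iff.1 h0 p (l.V3_le hp)).symm
    exact (mem_centralizer_iff.1 (h.mul_cent hz o hy hs ht hsV htV) p (l.V3_le hp)).symm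
  have hB1U : A0 ⊓ centralizer (U : Set G) ≤ B1 := by
    refine le_inf inf_le_left (inf_le_right.trans (centralizer_le (Set.singleton_subset_iff.2 ?_)))
    exact h.cjV_le hy (l.V3_le hp)
  have h4 := relIndex_mul_of (H := centralizer (U : Set G)) (M := B1) (L := A0) hB1U hB1A
  have h5 := relIndex_mul_relIndex (h.nb A0) (h.nb B1) U (h.nb_anti hB1A) (h.nb_le _)
  have h6 := h.lb hz o _ B1 le_rfl hB1A
  have hvB : v ∈ h.nb B1 := by
    refine ⟨hvU, fun c hc => ?_⟩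
    have h7 := mem_centralizer_iff.1 (h1 c (hB1A hc) (hB1p c hc)) v hv
    rw [← h7, mul_inv_cancel_right, mul_inv_cancel]
    exact one_mem _
  have hvB' : v' ∈ h.nb B1 := by
    refine ⟨hvU', fun c hc => ?_⟩
    have h7 := mem_centralizer_iff.1 (h1' c (hB1A hc) (hB1p c hc)) v' hv'
    rw [← h7, mul_inv_cancel_right, mul_inv_cancel]
    exact one_mem _
  have hvA : v ∉ h.nb A0 := fun h0 => hbV (l.L1 lz hb.2 hv hv3 (h0.2 b hb))
  have hvA' : v' ∉ h.nb A0 := fun h0 => hbV' (l'.L1 lz' hb.2 hv' hv3' (h0.2 b hb))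
  have h7 : 3 ≤ (h.nb A0).relIndex (h.nb B1) := by
    have h8 := two_le_relIndex hvB hvA
    by_contra hcon
    push Not at hcon
    have h9 : (h.nb A0).relIndex (h.nb B1) = 2 := by omega
    have h10 := Subgroup.mul_mem_iff_of_index_two (H := (h.nb A0).subgroupOf (h.nb B1)) h9 (a := ⟨v, hvB⟩)
      (b := ⟨v', hvB'⟩)
    rw [mem_subgroupOf, mem_subgroupOf, mem_subgroupOf] at h10
    have h11 : v * v' ∈ h.nb A0 := h10.2 ⟨fun h0 => absurd h0 hvA, fun h0 => absurd h0 hvA'⟩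
    have h12 := h11.2 b hb
    rw [h.comm_mul (h.S_le (h.Q_le hb.2)) hvU hvU'] at h12
    set w := b * v * b⁻¹ * v⁻¹ with hw
    set w' := b * v' * b⁻¹ * v'⁻¹ with hw'
    have hw3 : w ∈ cj y V3 := l.comm3 b hb.2 v hv
    have hw3' : w' ∈ cj y' V3 := l'.comm3 b hb.2 v' hv'
    have hwz : w ∉ zpowers z := fun h0 => hbV (l.L1 lz hb.2 hv hv3 h0)
    have hzy : z ∈ cj y V3 := l.R_le l.z_mem
    have hzy' : z ∈ cj y' V3 := l'.R_le l'.z_mem
    have hww : w ∈ cj y' V3 := by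
      have h13 : w = (w * w') * w'⁻¹ := by group
      rw [h13]
      exact mul_mem (zpowers_le.2 hzy' h12) (inv_mem hw3')
    -- `V₃^y ∩ V₃^y'` has order 8
    set D := cj y V3 ⊓ cj y' V3 with hD
    set D0 := D ⊓ centralizer ({b} : Set G) with hD0
    have hbz : z * b = b * z := (h.z_comm (h.S_le (h.Q_le hb.2))).symm
    have hzD : z ∈ D0 := ⟨⟨hzy, hzy'⟩, mem_centralizer_singleton_iff.2 hbz⟩
    have hwD : w ∈ D0 := ⟨⟨hw3, hww⟩, mem_centralizer_singleton_iff.2 (l.L2 lz hb.2 hv).symm⟩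
    have hpD : p ∈ D := ⟨hp, hp'⟩
    have hpD0 : p ∉ D0 := fun h0 => hbp (mem_centralizer_singleton_iff.1 h0.2).symm
    have h14 : 2 < Nat.card D0 := by
      by_contra hcon
      push Not at hcon
      have h15 : zpowers z = D0 := Subgroup.eq_of_le_of_card_ge (zpowers_le.2 hzD) (by rw [l.card_z]; exact hcon)
      rw [← h15] at hwD
      exact hwz hwD
    have h15 : 2 * Nat.card D0 ≤ Nat.card D := by
      have h16 := relIndex_mul_card D D0
      rw [inf_eq_right.2 (inf_le_left : D0 ≤ D)] at h16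
      rw [← h16]
      exact Nat.mul_le_mul_right _ (two_le_relIndex hpD hpD0)
    have h16 : Nat.card D ∣ 8 := by rw [← l.cardV3]; exact card_dvd_of_le inf_le_left
    have h17 : Nat.card D ≤ 8 := Nat.le_of_dvd (by norm_num) h16
    have h18 : Nat.card D ≠ 6 ∧ Nat.card D ≠ 7 := by
      refine ⟨?_, ?_⟩ <;> intro h7 <;> rw [h7] at h16 <;> revert h16 <;> decide
    have h19 : Nat.card D = 8 := by omega
    have h20 : D = cj y V3 := Subgroup.eq_of_le_of_card_ge inf_le_left (by rw [h19, l.cardV3])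
    have h21 : D = cj y' V3 := Subgroup.eq_of_le_of_card_ge inf_le_right (by rw [h19, l'.cardV3])
    exact hne (h20.symm.trans h21)
  have h8 : 0 < (centralizer (U : Set G)).relIndex B1 := relIndex_pos _ _
  have h9 : 3 * (centralizer (U : Set G)).relIndex B1 ≤ (h.nb A0).relIndex U := by
    rw [← h5]
    exact Nat.mul_le_mul h7 h6
  have h10 : (centralizer (U : Set G)).relIndex A0 ≤ 2 * (centralizer (U : Set G)).relIndex B1 := by
    rw [← h4, mul_comm]
    exact Nat.mul_le_mul_right _ h3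
  omega

end quad

/-- **`[V₃, Q] ≤ ⟨z⟩` ⟹ `P₂ ≤ N(V₃)`** -/
theorem normA {A : Subgroup G} (o : O5 S P P2 A) (hN : NoOv P2) : P2 ≤ normalizer (V3 : Set G) := by
  by_cases hE : ⁅cl (zl (S : Subgroup G) P) P2, oddGen P2⁆ ≤ h.nb (o2 P2)
  · exact h.norm_of_E hz hE
  exfalso
  obtain ⟨hH, hD, hle, hr⟩ := h.count_A hz o hN hE
  have hAP : A ≤ P2 := o.le.trans h.S_le
  set A0 := A ⊓ o2 P2 with hA0
  obtain ⟨y, hy, hAy⟩ : ∃ y ∈ P2, ¬ A0 ≤ centralizer ((cj y (zl (S : Subgroup G) P) : Subgroup G) : Set G) := by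
    by_contra hcon
    push Not at hcon
    have h1 : A0 ≤ centralizer (cl (zl (S : Subgroup G) P) P2 : Set G) :=
      cent_symm (cl_le fun y hy => cent_symm (hcon y hy))
    rw [relIndex_eq_one.2 h1] at hr
    omega
  obtain ⟨b, hb, hbV⟩ := SetLike.not_le_iff_exists.1 hAy
  have l := h.loc hy
  have lz := h.hzy hz hy
  obtain ⟨v, hv, hv3⟩ := l.exists_v
  have hvU := h.cjV_le hy hv
  set p := b * v * b⁻¹ * v⁻¹ with hp
  have hpz : p ∉ zpowers z := fun h0 => hbV (l.L1 lz hb.2 hv hv3 h0)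
  have hp3 : p ∈ cj y V3 := l.comm3 b hb.2 v hv
  have hpA : p ∈ centralizer (A : Set G) := o.quad v hvU b hb.1
  obtain ⟨a, ha, hav⟩ : ∃ a ∈ A, a * v * a⁻¹ * v⁻¹ ∉ h.nb (o2 P2) := by
    by_contra hcon
    push Not at hcon
    exact hpz ((hD v hvU hcon).2 b hb)
  have haP := hAP ha
  have hay : a * y ∈ P2 := mul_mem haP hy
  have l' := h.loc hay
  have lz' := h.hzy hz hay
  have hv' : a * v * a⁻¹ ∈ cj (a * y) (zl (S : Subgroup G) P) := by
    rw [← cj_cj, mem_cj]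
    have e : a⁻¹ * (a * v * a⁻¹) * a = v := by group
    rwa [e]
  have hv3' : a * v * a⁻¹ ∉ cj (a * y) V3 := by
    rw [← cj_cj, mem_cj]
    have e : a⁻¹ * (a * v * a⁻¹) * a = v := by group
    rwa [e]
  have hvU' := h.cjV_le hay hv'
  -- `V₃^{ay} ≠ V₃^y`
  have hne : cj y V3 ≠ cj (a * y) V3 := by
    intro he
    apply hav
    refine ⟨mul_mem hvU' (inv_mem hvU), fun q hqQ => ?_⟩
    have hqP := h.S_le (h.Q_le hqQ)
    rw [h.comm_mul hqP hvU' (inv_mem hvU)]
    have hvi : v⁻¹ = v := inv_eq_of_mul_eq_one_right (h.U_sq' hvU)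
    rw [hvi]
    by_cases hqV : q ∈ centralizer ((cj y (zl (S : Subgroup G) P) : Subgroup G) : Set G)
    · have h1 : q ∈ centralizer ((cj (a * y) (zl (S : Subgroup G) P) : Subgroup G) : Set G) := by
        refine l'.faith q hqQ ?_
        rw [← he]
        exact centralizer_le l.V3_le hqV
      have h2 := mem_centralizer_iff.1 hqV v hv
      have h3 := mem_centralizer_iff.1 h1 _ hv'
      rw [← h3, mul_inv_cancel_right, mul_inv_cancel, one_mul, ← h2, mul_inv_cancel_right, mul_inv_cancel]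
      exact one_mem _
    · have hqV' : q ∉ centralizer ((cj (a * y) (zl (S : Subgroup G) P) : Subgroup G) : Set G) := by
        intro h0
        apply hqV
        refine l.faith q hqQ ?_
        rw [he]
        exact centralizer_le l'.V3_le h0
      have h1 : q * v * q⁻¹ * v⁻¹ ∉ zpowers z := fun h0 => hqV (l.L1 lz hqQ hv hv3 h0)
      have h2 : q * (a * v * a⁻¹) * q⁻¹ * (a * v * a⁻¹)⁻¹ ∉ zpowers z := fun h0 =>
        hqV' (l'.L1 lz' hqQ hv' hv3' h0)
      have h3 := l.comm3 q hqQ v hv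
      have h4 := l'.comm3 q hqQ _ hv'
      rw [← he] at h4
      have h5 := l.L3 hqQ hqV h3 h4 h1 h2 (l.L2 lz hqQ hv) (l'.L2 lz' hqQ hv')
      have h6 := l.sq _ (l.V3_le h3)
      rw [pow_two] at h6
      rw [inv_eq_of_mul_eq_one_right h6] at h5
      exact h5
  -- all conjugates of `p` are centralised by `A`
  have hpa : p ∈ cj (a * y) V3 := by
    rw [← cj_cj, mem_cj, mul_assoc, ← mem_centralizer_iff.1 hpA a ha, inv_mul_cancel_left]
    exact hp3
  have h1 : ∀ g ∈ P2, g * p * g⁻¹ ∈ centralizer (A : Set G) := by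
    intro g hg
    have h2 : g * p * g⁻¹ ∈ cj (g * y) V3 := by
      rw [← cj_cj, mem_cj]
      have e : g⁻¹ * (g * p * g⁻¹) * g = p := by group
      rwa [e]
    have h3 : g * p * g⁻¹ ∈ cj (g * (a * y)) V3 := by
      rw [← cj_cj, mem_cj]
      have e : g⁻¹ * (g * p * g⁻¹) * g = p := by group
      rwa [e]
    refine hH _ (h.cjV3_nb hz (mul_mem hg hy) h2) ?_
    by_contra h4
    have h5 := h.key hz o hle (mul_mem hg hy) (mul_mem hg hay) h2 h3 h4
    rw [← cj_cj, ← cj_cj g (a * y)] at h5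
    exact hne (Subgroup.map_injective (MulAut.conj g).injective h5)
  have hM : cl (zpowers p) P2 ≤ centralizer (A : Set G) := by
    refine cl_le fun g hg w hw => ?_
    rw [mem_cj] at hw
    obtain ⟨n, hn⟩ := mem_zpowers_iff.1 hw
    have h2 : w = (g * p * g⁻¹) ^ n := by
      rw [conj_zpow, hn]; group
    rw [h2]
    exact zpow_mem (h1 g hg) n
  have hMP : P2 ≤ normalizer (cl (zpowers p) P2 : Set G) := le_normalizer_cl _ _
  have hE' : oddGen P2 ≤ centralizer (cl (zpowers p) P2 : Set G) := by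
    rcases h.min_or (N := P2 ⊓ centralizer (cl (zpowers p) P2 : Set G)) inf_le_left (le_normalizer_inf_cent hMP) with
      h2 | h2
    · exact h2.trans inf_le_right
    · exact absurd (le_trans (le_inf o.le (le_inf hAP (cent_symm hM))) h2) o.nQ
  have hpM : y⁻¹ * p * y ∈ cl (zpowers p) P2 := by
    have h2 := conj_mem' hMP (inv_mem hy) (le_cl (zpowers p) P2 (mem_zpowers p))
    rwa [inv_inv] at h2
  have hpV : y⁻¹ * p * y ∈ V3 := mem_cj.1 hp3
  have hpz' : y⁻¹ * p * y ∉ zpowers z := fun h0 => hpz ((h.mem_zy hy).2 h0)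
  have hS : (S : Subgroup G) ≤ normalizer ((zl (S : Subgroup G) P ⊓ cl (zpowers p) P2 : Subgroup G) : Set G) :=
    normalizer_inf h.mod.S_V (h.S_le.trans hMP)
  have hpm : y⁻¹ * p * y ∈ zl (S : Subgroup G) P ⊓ cl (zpowers p) P2 := ⟨h.mod.V3_le hpV, hpM⟩
  have hR : R ≤ zl (S : Subgroup G) P ⊓ cl (zpowers p) P2 := by
    rcases h.mod.uni _ inf_le_left hS with h2 | h2 | h2 | h2 | h2
    · rw [h2, mem_bot] at hpm
      exact absurd (hpm ▸ one_mem _) hpz'
    · rw [h2] at hpm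
      exact absurd hpm hpz'
    · exact h2.ge
    · exact h.mod.R_le.trans h2.ge
    · exact h.R_le_V.trans h2.ge
  exact h.E_cent_R (hE'.trans (centralizer_le (hR.trans inf_le_right)))

end A

end B5

end Cfsg.Agent.Omega.NO3S.Fld.WFour

end

section


/-!
# Fld, `q = 4`, one offender : the case `[V₃, Q] ≰ ⟨z⟩` (port of `LLess`)

* `B5.norm_Ry`, `B5.false_Ry` : `A₀ = A ∩ Q ≤ C(X)`, `A₀ ≰ C(U)` is impossible: `A` would normalise all `R^y`;
* `B5.norm_V3` : **one offender ⟹ `P₂ ≤ N_G(V₃)`**; `B5.two_of`.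
-/

set_option autoImplicit false
set_option linter.unusedSectionVars false

namespace Cfsg.Agent.Omega.NO3S.Fld.WFour

open Subgroup Cfsg Cfsg.Agent.ZN Cfsg.Agent.ZN.ChoiceBase Cfsg.Agent.Omega.MinPar Cfsg.Agent.Omega.FrameNOFF
open Cfsg.Agent.ZN.ChoiceSit (Syl syl_iff syl_not_dvd o2_le_syl isPGroup_o2)
open Cfsg.Agent.MinSimple.MinParabolic (IsMinPar)
open Cfsg.Agent.MinSimple.VModule (oddGen oddGen_le mem_oddGen le_normalizer_oddGen le_normalizer_o2 o2_le
  zc_le zc_le_zl le_normalizer_zl zc_sq zc_comm le_centralizer_zc)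
open Cfsg.Agent.Omega.NO3b.EZero (cl cj_le_cl le_cl cl_le cj_cl le_normalizer_cl cent_symm cj_cent cj_norm
  sq_of_comm oddGen_sup_syl mem_cj_self relIndex_cj le_normalizer_inf_cent)
open Cfsg.Agent.Omega.NO3b.K0 (conj_mem' cj_of_le cj_self NoOv noOv)
open Cfsg.Agent.Omega.NO3S.NotFF (le_normalizer_of_forall normalizer_inf normalizer_sup normalizer_centralizer
  normalizer_commutator)
open Cfsg.Agent.Omega.SQ1.Bau (card_sup_comm mem_sup_comm)
open Cfsg.Agent.Omega.NO1.BestOff (Best)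
open Cfsg.Agent.Omega.FFThm (ElemM)
open scoped commutatorElement

universe u

namespace B5

variable {G : Type u} [Group G] [Finite G] {S : Sylow 2 G} {P P2 R V3 : Subgroup G} {z : G}
  (h : B5 S P P2 R V3 z)
include h

theorem P2_X : P2 ≤ normalizer (cl R P2 : Set G) := h.X_norm

/-- `x ≤ |X : C_X(A)|` -/
theorem no_X (hN : NoOv P2) {A : Subgroup G} (o : O5 S P P2 A) :
    (o2 P2).relIndex A ≤ (centralizer (A : Set G)).relIndex (cl R P2) := by
  obtain ⟨hA2, hAc⟩ := h.A_o2 o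
  have h1 := hN.gen (N := ⊥) (Y := cl R P2) (D := cl R P2 ⊓ centralizer (A : Set G)) bot_le
    (h.X_le_U.trans h.U_le_P2) h.X_sq h.X_comm (NO3S.NotFF.le_normalizer_bot P2) h.X_norm (fun h0 =>
      h.E_cent_R (cent_symm (h.R_le_X.trans (commutator_eq_bot_iff_le_centralizer.1 (le_bot_iff.1 h0)))))
    (o.le.trans h.S_le) hA2 hAc inf_le_left
    (le_bot_iff.2 (commutator_eq_bot_iff_le_centralizer.2 inf_le_right))
  rwa [inf_relIndex_left] at h1

/-- `|A| = x |A₀|` -/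
theorem card_A (A : Subgroup G) : (o2 P2).relIndex A * Nat.card ↥(A ⊓ o2 P2) = Nat.card A := relIndex_mul_card _ _

/-- `C_U(A₀) = X C_U(A)` if `A₀ ≤ C(X)` -/
theorem cU (hN : NoOv P2) {A : Subgroup G} (o : O5 S P P2 A)
    (hAX : A ⊓ o2 P2 ≤ centralizer (cl R P2 : Set G)) :
    cl (zl (S : Subgroup G) P) P2 ⊓ centralizer ((A ⊓ o2 P2 : Subgroup G) : Set G) ≤
      cl R P2 ⊔ (cl (zl (S : Subgroup G) P) P2 ⊓ centralizer (A : Set G)) := by
  set U := cl (zl (S : Subgroup G) P) P2 with hU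
  set X := cl R P2 with hX
  set A0 := A ⊓ o2 P2 with hA0
  set C := centralizer (A : Set G) with hC
  set Y := U ⊓ centralizer (A0 : Set G) with hY
  have hXY : X ≤ Y := le_inf h.X_le_U (cent_symm hAX)
  have hMY : X ⊔ (U ⊓ C) ≤ Y := sup_le hXY (inf_le_inf_left _ (centralizer_le inf_le_left))
  have h1 : C.relIndex Y ≤ (o2 P2).relIndex A := by
    refine (o.off Y inf_le_left).trans ?_
    rw [← inf_relIndex_left A (o2 P2)]
    exact Nat.le_of_dvd (relIndex_pos _ _) (relIndex_dvd_of_le_left A (cent_symm inf_le_right))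
  have h2 : Y ⊓ C ≤ X ⊔ (U ⊓ C) := le_trans (fun y hy => (⟨hy.1.1, hy.2⟩ : y ∈ U ⊓ C)) le_sup_right
  have h3 := relIndex_mul_of (H := C) h2 hMY
  have h4 : (o2 P2).relIndex A ≤ C.relIndex (X ⊔ (U ⊓ C)) :=
    (h.no_X hN o).trans (relIndex_le_of_le_right le_sup_left (relIndex_pos _ _).ne')
  have h5 := relIndex_pos (X ⊔ (U ⊓ C)) Y
  have h6 := relIndex_pos (o2 P2) A
  have h7 : (X ⊔ (U ⊓ C)).relIndex Y = 1 := by
    by_contra hcon
    have h8 : 2 ≤ (X ⊔ (U ⊓ C)).relIndex Y := by omega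
    have h9 := Nat.mul_le_mul h4 h8
    omega
  exact relIndex_eq_one.1 h7

/-- `[c, v] ∈ R^y` for `c ∈ C_Q(X)`, `v ∈ V^y` -/
theorem centRy {y c v : G} (hy : y ∈ P2) (hc : c ∈ o2 P2) (hcX : c ∈ centralizer (cl R P2 : Set G))
    (hv : v ∈ cj y (zl (S : Subgroup G) P)) : c * v * c⁻¹ * v⁻¹ ∈ cj y R := by
  rw [mem_cj, conj_comm']
  have h1 : y⁻¹ * c * y ∈ o2 P2 := by
    have := conj_mem' (le_normalizer_o2 P2) (inv_mem hy) hc
    rwa [inv_inv] at this
  have h2 : y⁻¹ * c * y ∈ centralizer (cl R P2 : Set G) := by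
    have := conj_mem' (normalizer_centralizer h.X_norm) (inv_mem hy) hcX
    rwa [inv_inv] at this
  exact h.mod.centR _ (h.Q_le h1) (centralizer_le h.R_le_X h2) _ (mem_cj.1 hv)

/-- `⁅V^y, C_Q(X)⁆ = R^y` if `C_Q(X) ≰ C(V)` -/
theorem comm_C1 (hC : ¬ o2 P2 ⊓ centralizer (cl R P2 : Set G) ≤ centralizer (zl (S : Subgroup G) P : Set G)) {y : G}
    (hy : y ∈ P2) : ⁅cj y (zl (S : Subgroup G) P), o2 P2 ⊓ centralizer (cl R P2 : Set G)⁆ = cj y R := by
  set C1 := o2 P2 ⊓ centralizer (cl R P2 : Set G) with hC1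
  have hn : P2 ≤ normalizer (C1 : Set G) := normalizer_inf (le_normalizer_o2 P2) (normalizer_centralizer h.X_norm)
  have h1 : ⁅zl (S : Subgroup G) P, C1⁆ = R := by
    have hWR : ⁅zl (S : Subgroup G) P, C1⁆ ≤ R := by
      rw [commutator_le]
      intro v hv c hc
      have h2 := inv_mem (h.mod.centR c (h.Q_le hc.1) (centralizer_le h.R_le_X hc.2) v hv)
      have e : (c * v * c⁻¹ * v⁻¹)⁻¹ = ⁅v, c⁆ := by rw [commutatorElement_def]; group
      rwa [e] at h2
    have hS : (S : Subgroup G) ≤ normalizer ((⁅zl (S : Subgroup G) P, C1⁆ : Subgroup G) : Set G) :=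
      normalizer_commutator h.mod.S_V (h.S_le.trans hn)
    have hz : ¬ ⁅zl (S : Subgroup G) P, C1⁆ ≤ zpowers z := by
      intro h0
      apply hC
      intro c hc
      refine h.mod.small c (h.Q_le hc.1) fun v hv => ?_
      have h2 := inv_mem (h0 (commutator_mem_commutator hv hc))
      have e : ⁅v, c⁆⁻¹ = c * v * c⁻¹ * v⁻¹ := by rw [commutatorElement_def]; group
      rwa [e] at h2
    rcases h.mod.uni _ (hWR.trans h.R_le_V) hS with h2 | h2 | h2 | h2 | h2
    · exact absurd (h2.le.trans bot_le) hz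
    · exact absurd h2.le hz
    · exact h2
    · exact le_antisymm hWR (h.mod.R_le.trans h2.ge)
    · exact le_antisymm hWR (h.R_le_V.trans h2.ge)
  have h2 : cj y C1 = C1 := cj_of_le hn hy
  conv_lhs => rw [← h2]
  rw [← h1]
  exact (Subgroup.map_commutator _ _ _).symm

/-- `C_1` moves `V` if `A₀ ≤ C(X)`, `A₀ ≰ C(U)` -/
theorem C1_moves {A : Subgroup G} (hAX : A ⊓ o2 P2 ≤ centralizer (cl R P2 : Set G))
    (hAU : ¬ A ⊓ o2 P2 ≤ centralizer (cl (zl (S : Subgroup G) P) P2 : Set G)) :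
    ¬ o2 P2 ⊓ centralizer (cl R P2 : Set G) ≤ centralizer (zl (S : Subgroup G) P : Set G) := by
  intro h0
  apply hAU
  have hn : P2 ≤ normalizer ((o2 P2 ⊓ centralizer (cl R P2 : Set G) : Subgroup G) : Set G) :=
    normalizer_inf (le_normalizer_o2 P2) (normalizer_centralizer h.X_norm)
  have h1 : cl (zl (S : Subgroup G) P) P2 ≤ centralizer ((o2 P2 ⊓ centralizer (cl R P2 : Set G) : Subgroup G) : Set G) :=
    cl_le fun p hp => by
      have h4 := cj_cent (g := p) (cent_symm h0)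
      rwa [cj_of_le hn hp] at h4
  exact (le_inf inf_le_right hAX).trans (cent_symm h1)

/-- **`A` normalises all `R^y`** if `A₀ ≤ C(X)`, `A₀ ≰ C(U)` -/
theorem norm_Ry (hN : NoOv P2) {A : Subgroup G} (o : O5 S P P2 A)
    (hAX : A ⊓ o2 P2 ≤ centralizer (cl R P2 : Set G))
    (hAU : ¬ A ⊓ o2 P2 ≤ centralizer (cl (zl (S : Subgroup G) P) P2 : Set G)) {y a : G} (hy : y ∈ P2) (ha : a ∈ A) :
    cj (a * y) R ≤ cj y R := by
  have hC := h.C1_moves hAX hAU
  have haP : a ∈ P2 := h.S_le (o.le ha)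
  set C1 := o2 P2 ⊓ centralizer (cl R P2 : Set G) with hC1
  by_cases hy0 : A ⊓ o2 P2 ≤ centralizer (cj y (zl (S : Subgroup G) P) : Set G)
  · -- `V^y ≤ X C_U(A)`
    have h1 : cj (a * y) (zl (S : Subgroup G) P) ≤ cj y (zl (S : Subgroup G) P) ⊔ cl R P2 := by
      intro w hw
      rw [← cj_cj, mem_cj] at hw
      have hv : a⁻¹ * w * a ∈ cl (zl (S : Subgroup G) P) P2 ⊓ centralizer ((A ⊓ o2 P2 : Subgroup G) : Set G) :=
        ⟨h.cjV_le hy hw, cent_symm hy0 hw⟩
      have hcomm : ∀ p ∈ cl R P2, ∀ q ∈ cl (zl (S : Subgroup G) P) P2 ⊓ centralizer (A : Set G), p * q = q * p :=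
        fun p hp q hq => h.U_mul (h.X_le_U hp) hq.1
      obtain ⟨x, hx, c, hc, hxc⟩ := mem_sup_comm hcomm (h.cU hN o hAX hv)
      have e1 : w = a * x * a⁻¹ * x⁻¹ * (a⁻¹ * w * a) := by
        have h2 := mem_centralizer_iff.1 hc.2 a ha
        have e2 : w = a * (a⁻¹ * w * a) * a⁻¹ := by group
        have e3 : a * (x * c) * a⁻¹ = a * x * (c * a * c⁻¹)⁻¹ * c := by group
        have e4 : c * a * c⁻¹ = a := by rw [← h2, mul_inv_cancel_right]
        have e5 : w = a * (x * c) * a⁻¹ := by rw [← hxc]; exact e2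
        rw [hxc, e5, e3, e4]; group
      rw [e1, sup_comm]
      exact mul_mem (mem_sup_left (mul_mem (conj_mem' h.X_norm haP hx) (inv_mem hx))) (mem_sup_right hw)
    rw [← h.comm_C1 hC (mul_mem haP hy), commutator_le]
    intro w hw c hc
    obtain ⟨v, hv, x, hx, rfl⟩ := mem_sup_comm (fun p hp q hq => h.U_mul (h.cjV_le hy hp) (h.X_le_U hq)) (h1 hw)
    have h2 := inv_mem (h.centRy hy hc.1 hc.2 hv)
    have h3 := mem_centralizer_iff.1 hc.2 x hx
    have e : ⁅v * x, c⁆ = (c * v * c⁻¹ * v⁻¹)⁻¹ := by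
      rw [commutatorElement_def]
      have e1 : v * x * c * (v * x)⁻¹ * c⁻¹ = v * (x * c * x⁻¹) * v⁻¹ * c⁻¹ := by group
      rw [e1, h3, mul_inv_cancel_right]
      group
    rw [e]
    exact h2
  · -- `R^y = [V^y, A₀] ≤ C(A)`
    obtain ⟨a0, ha0, ha0V⟩ := SetLike.not_le_iff_exists.1 hy0
    have h1 : cj y R ≤ centralizer (A : Set G) := by
      have h2 : (centralizer ({a0} : Set G)).relIndex (cj y (zl (S : Subgroup G) P)) ≤
          (⊥ : Subgroup G).relIndex (cj y R ⊓ centralizer (A : Set G)) := by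
        refine relIndex_le_of_map (fun v => a0 * v * a0⁻¹ * v⁻¹) (fun v hv => ⟨?_, ?_⟩) fun v hv w hw hvw => ?_
        · exact h.centRy hy ha0.2 (hAX ha0) hv
        · exact o.quad v (h.cjV_le hy hv) a0 ha0.1
        · rw [mem_bot, inv_mul_eq_one] at hvw
          have hvU := h.cjV_le hy hv
          have hwU := h.cjV_le hy hw
          rw [mem_centralizer_singleton_iff]
          have ha0P : a0 ∈ P2 := h.S_le (h.Q_le ha0.2)
          have h3 := h.comm_mul ha0P (inv_mem hvU) hwU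
          have hvi : v⁻¹ = v := inv_eq_of_mul_eq_one_right (h.U_sq' hvU)
          rw [hvi] at h3 ⊢
          rw [hvw] at h3
          have hsq : a0 * w * a0⁻¹ * w⁻¹ ∈ cl (zl (S : Subgroup G) P) P2 :=
            mul_mem (conj_mem' h.U_norm ha0P hwU) (inv_mem hwU)
          rw [h.U_sq' hsq, mul_inv_eq_one, mul_inv_eq_iff_eq_mul] at h3
          exact h3.symm
      have h3 : (centralizer ({a0} : Set G)).relIndex (cj y (zl (S : Subgroup G) P)) ≥ 4 := by
        have h4 := relIndex_mul_card (cj y (zl (S : Subgroup G) P)) (centralizer ({a0} : Set G))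
        rw [card_cj, h.mod.card] at h4
        have h5 : Nat.card ↥(cj y (zl (S : Subgroup G) P) ⊓ centralizer ({a0} : Set G)) ≤ 4 := by
          have h6 : y⁻¹ * a0 * y ∈ o2 P2 := by
            have := conj_mem' (le_normalizer_o2 P2) (inv_mem hy) ha0.2
            rwa [inv_inv] at this
          have h7 : y⁻¹ * a0 * y ∉ centralizer (zl (S : Subgroup G) P : Set G) := fun h8 =>
            ha0V (mem_cent_cj.2 h8)
          have h8 := h.fix4 _ (h.Q_le h6) h7
          have h9 : cj y (zl (S : Subgroup G) P) ⊓ centralizer ({a0} : Set G) =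
              cj y (zl (S : Subgroup G) P ⊓ centralizer ({y⁻¹ * a0 * y} : Set G)) := by
            ext w
            rw [mem_cj, mem_inf, mem_inf, mem_cj, mem_centralizer_singleton_iff, mem_centralizer_singleton_iff]
            refine and_congr_right fun _ => ?_
            constructor
            · intro e
              have e1 : y⁻¹ * w * y * (y⁻¹ * a0 * y) = y⁻¹ * (w * a0) * y := by group
              have e2 : y⁻¹ * a0 * y * (y⁻¹ * w * y) = y⁻¹ * (a0 * w) * y := by group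
              rw [e1, e2, e]
            · intro e
              have e1 : y⁻¹ * w * y * (y⁻¹ * a0 * y) = y⁻¹ * (w * a0) * y := by group
              have e2 : y⁻¹ * a0 * y * (y⁻¹ * w * y) = y⁻¹ * (a0 * w) * y := by group
              rw [e1, e2] at e
              exact mul_left_cancel (mul_right_cancel e)
          rw [h9, card_cj]
          exact h8
        by_contra hcon
        push Not at hcon
        have h10 := Nat.mul_le_mul (Nat.le_of_lt_succ hcon) h5
        omega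
      have h4 : 4 ≤ Nat.card ↥(cj y R ⊓ centralizer (A : Set G)) := by
        have h5 := h3.le.trans h2
        rwa [relIndex_bot_left] at h5
      have h5 : cj y R ⊓ centralizer (A : Set G) = cj y R :=
        Subgroup.eq_of_le_of_card_ge inf_le_left (by rw [card_cj, h.mod.cardR]; exact h4)
      exact inf_eq_left.1 h5
    intro w hw
    rw [← cj_cj, mem_cj] at hw
    have h2 := mem_centralizer_iff.1 (h1 hw) a ha
    have e : w = a * (a⁻¹ * w * a) * a⁻¹ := by group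
    rw [e, h2, mul_inv_cancel_right]
    exact hw

/-- **`A₀ ≤ C(X)`, `A₀ ≰ C(U)` is impossible.** -/
theorem false_Ry (hN : NoOv P2) {A : Subgroup G} (o : O5 S P P2 A)
    (hAX : A ⊓ o2 P2 ≤ centralizer (cl R P2 : Set G))
    (hAU : ¬ A ⊓ o2 P2 ≤ centralizer (cl (zl (S : Subgroup G) P) P2 : Set G)) : False := by
  have h1 : cl A P2 ≤ normalizer (R : Set G) := by
    refine cl_le fun p hp => ?_
    rintro _ ⟨a, ha, rfl⟩
    have h2 := h.norm_Ry hN o hAX hAU (inv_mem hp) ha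
    rw [mem_normalizer_iff_cj]
    have h3 : cj (p * a * p⁻¹) R ≤ R := by
      have h4 := cj_mono p h2
      rwa [cj_cj, cj_cj_inv, ← mul_assoc] at h4
    exact Subgroup.eq_of_le_of_card_ge h3 (card_cj _ _).ge
  have h2 : cl A P2 ≤ P2 := cl_le fun p hp => by
    have h3 := cj_mono p (o.le.trans h.S_le)
    rwa [cj_self hp] at h3
  rcases h.min_or h2 (le_normalizer_cl _ _) with h3 | h3
  · exact h.E_R (h3.trans h1)
  · exact o.nQ ((le_inf o.le (le_cl _ _)).trans h3)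

section B

variable (hz : ¬ ∀ b ∈ o2 P2, ∀ v ∈ V3, b * v * b⁻¹ * v⁻¹ ∈ zpowers z)
include hz

/-- `V ∩ X = R` -/
theorem inf_X : zl (S : Subgroup G) P ⊓ cl R P2 = R := by
  have hS : (S : Subgroup G) ≤ normalizer ((zl (S : Subgroup G) P ⊓ cl R P2 : Subgroup G) : Set G) :=
    normalizer_inf h.mod.S_V (h.S_le.trans h.X_norm)
  have hR : R ≤ zl (S : Subgroup G) P ⊓ cl R P2 := le_inf h.R_le_V h.R_le_X
  have hn : ¬ V3 ≤ cl R P2 := fun h0 => hz fun b hb v hv => h.comm_XQ hb (h0 hv)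
  rcases h.mod.uni _ inf_le_left hS with h2 | h2 | h2 | h2 | h2
  · have h3 := Subgroup.card_le_of_le hR
    rw [h2, card_bot, h.mod.cardR] at h3
    omega
  · have h3 := Subgroup.card_le_of_le hR
    rw [h2, h.loc1.card_z, h.mod.cardR] at h3
    omega
  · exact h2
  · exact absurd (h2.ge.trans inf_le_right) hn
  · exact absurd ((h.mod.V3_le.trans h2.ge).trans inf_le_right) hn

/-- `V^y ∩ X = R^y` -/
theorem inf_X' {y v : G} (hy : y ∈ P2) (hv : v ∈ cj y (zl (S : Subgroup G) P)) (hvX : v ∈ cl R P2) :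
    v ∈ cj y R := by
  rw [mem_cj] at hv ⊢
  rw [← h.inf_X hz]
  refine ⟨hv, ?_⟩
  have := conj_mem' h.X_norm (inv_mem hy) hvX
  rwa [inv_inv] at this

/-- **`A₀ ≤ C(X)`** -/
theorem normB1 (hN : NoOv P2) {A : Subgroup G} (o : O5 S P P2 A)
    (h4 : A ⊓ o2 P2 ≤ centralizer (cl (zl (S : Subgroup G) P) P2 : Set G)) : P2 ≤ normalizer (V3 : Set G) := by
  set U := cl (zl (S : Subgroup G) P) P2 with hU
  set X := cl R P2 with hX
  set A0 := A ⊓ o2 P2 with hA0
  set C := centralizer (A : Set G) with hC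
  set x := (o2 P2).relIndex A with hx
  have hAP : A ≤ P2 := o.le.trans h.S_le
  have hXU : X ≤ U := h.X_le_U
  have hxpos : 0 < x := relIndex_pos _ _
  have h1 : x ≤ C.relIndex X := h.no_X hN o
  have h2 : x * Nat.card A0 = Nat.card A := h.card_A A
  have hAU : A ⊓ centralizer (U : Set G) ≤ A0 := fun a ha => ⟨ha.1, h.inf_cent_U ⟨o.le ha.1, ha.2⟩⟩
  have h5 : C.relIndex U ≤ x := by
    refine o.index_le.trans ?_
    have h6 := h.relIndex_U o.le
    rw [relIndex_eq_one.2 h4, one_mul] at h6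
    exact h6.symm.le
  set M := X ⊔ (U ⊓ C) with hM
  have hMU : M ≤ U := sup_le hXU inf_le_left
  have h6 : C.relIndex M * M.relIndex U = C.relIndex U := relIndex_mul_of le_sup_right hMU
  have h7 : C.relIndex X ≤ C.relIndex M := relIndex_le_of_le_right le_sup_left (relIndex_pos _ _).ne'
  have h8 : U ≤ M := by
    have h9 : x * M.relIndex U ≤ x * 1 := by
      rw [mul_one]
      exact (Nat.mul_le_mul_right _ (h1.trans h7)).trans (h6.le.trans h5)
    have h10 := Nat.le_of_mul_le_mul_left h9 hxpos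
    have h11 := relIndex_pos M U
    exact relIndex_eq_one.1 (by omega)
  -- `[U, E] ≤ X`
  have hE : oddGen P2 ≤ kmod P2 U X h.U_norm h.X_norm := by
    rcases h.min_or (kmod_le (h1 := h.U_norm) (h2 := h.X_norm)) h.kmod_UX_norm with h9 | h9
    · exact h9
    · exfalso
      apply o.nQ
      refine le_trans (fun a ha => ?_) h9
      refine ⟨o.le ha, hAP ha, fun u hu => ?_⟩
      have hcom : ∀ p ∈ X, ∀ q ∈ U ⊓ C, p * q = q * p := fun p hp q hq => h.U_mul (hXU hp) hq.1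
      obtain ⟨v, hv, c, hc, rfl⟩ := mem_sup_comm hcom (h8 hu)
      rw [h.comm_mul (hAP ha) (hXU hv) hc.1]
      have h10 := mem_centralizer_iff.1 hc.2 a ha
      rw [h10, mul_inv_cancel_right, mul_inv_cancel, mul_one]
      exact mul_mem (conj_mem' h.X_norm (hAP ha) hv) (inv_mem hv)
  -- `U = V X`
  have hVX : P2 ≤ normalizer ((zl (S : Subgroup G) P ⊔ X : Subgroup G) : Set G) := by
    refine h.sup_S.ge.trans (sup_le ?_ (normalizer_sup h.mod.S_V (h.S_le.trans h.X_norm)))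
    refine le_normalizer_of_forall fun e he w hw => ?_
    have hwU : w ∈ U := (sup_le h.V_le_U h.X_le_U) hw
    have h1 := (hE he).2 w hwU
    have h2 := mul_mem (mem_sup_right (S := zl (S : Subgroup G) P) h1) hw
    rwa [inv_mul_cancel_right] at h2
  have hUV : U ≤ zl (S : Subgroup G) P ⊔ X := cl_le fun p hp => by
    have h1 := cj_mono p (le_sup_left (a := zl (S : Subgroup G) P) (b := X))
    rwa [cj_of_le hVX hp] at h1
  have hW : ⁅o2 P2, U⁆ ≤ zl (S : Subgroup G) P := by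
    rw [commutator_le]
    intro q hq u hu
    obtain ⟨v, hv, w, hw, rfl⟩ := mem_sup_comm (fun a ha b hb => h.U_mul (h.V_le_U ha) (hXU hb)) (hUV hu)
    rw [commutatorElement_def, h.comm_mul (h.S_le (h.Q_le hq)) (h.V_le_U hv) (hXU hw)]
    exact mul_mem (h.mod.V3_le (h.comm_VS (h.Q_le hq) hv))
      (h.R_le_V (h.zpowers_le_R (h.comm_XQ hq hw)))
  set W := ⁅o2 P2, U⁆ with hWdef
  have hWn : P2 ≤ normalizer (W : Set G) := normalizer_commutator (le_normalizer_o2 P2) h.U_norm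
  have hWm : ∀ q ∈ o2 P2, ∀ v ∈ zl (S : Subgroup G) P, q * v * q⁻¹ * v⁻¹ ∈ W := fun q hq v hv => by
    have := commutator_mem_commutator hq (h.V_le_U hv)
    rwa [commutatorElement_def] at this
  have hWz : ¬ W ≤ zpowers z := by
    intro h0
    apply h.not_Q_V
    intro q hq
    exact h.mod.small q (h.Q_le hq) fun v hv => h0 (hWm q hq v hv)
  rcases h.mod.uni W hW (h.S_le.trans hWn) with h1 | h1 | h1 | h1 | h1
  · exact absurd (h1.le.trans bot_le) hWz
  · exact absurd h1.le hWz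
  · rw [h1] at hWn
    exact absurd hWn h.mv
  · rwa [h1] at hWn
  · exfalso
    rw [h1] at hWn
    have h9 : X ≤ zl (S : Subgroup G) P := cl_le fun p hp => by
      have h10 := cj_mono p h.R_le_V
      rwa [cj_of_le hWn hp] at h10
    have h10 : X = R := by
      rw [← h.inf_X hz, ← hX]
      exact (inf_eq_right.2 h9).symm
    apply h.mv
    have h11 := h.X_norm
    rw [← hX, h10] at h11
    exact h11

section quad

variable {A : Subgroup G} (o : O5 S P P2 A)
include o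

/-- `[b, v] ∈ V₃^y - R^y` -/
theorem fB {y b v : G} (hy : y ∈ P2) (hb : b ∈ A ⊓ o2 P2) (hbR : b ∉ centralizer ((cj y R : Subgroup G) : Set G))
    (hv : v ∈ cj y (zl (S : Subgroup G) P)) (hv3 : v ∉ cj y V3) :
    b * v * b⁻¹ * v⁻¹ ∈ cj y V3 ∧ b * v * b⁻¹ * v⁻¹ ∉ cj y R ∧ b * v * b⁻¹ * v⁻¹ ∈ centralizer (A : Set G) :=
  ⟨(h.loc hy).comm3 b hb.2 v hv, fun h0 => hv3 ((h.loc hy).nCentR b hb.2 hbR v hv h0), o.quad v (h.cjV_le hy hv) b hb.1⟩

/-- `C_{A₀}(R^y) ≤ C(V^y)` if `A₀` moves `R^y` -/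
theorem centB {y b c : G} (hy : y ∈ P2) (hb : b ∈ A ⊓ o2 P2) (hbR : b ∉ centralizer ((cj y R : Subgroup G) : Set G))
    (hc : c ∈ A ⊓ o2 P2) (hcR : c ∈ centralizer ((cj y R : Subgroup G) : Set G)) :
    c ∈ centralizer ((cj y (zl (S : Subgroup G) P) : Subgroup G) : Set G) := by
  obtain ⟨v, hv, hv3⟩ := (h.loc hy).exists_v
  obtain ⟨h1, h2, h3⟩ := h.fB hz o hy hb hbR hv hv3
  exact (h.loc hy).cent_of_f hc.2 hcR h1 h2 (mem_centralizer_iff.1 h3 c hc.1)

/-- **`|B : C_B(X)| ≤ |U₀ : {u ∈ U₀ | [u, B] ≤ X}|`**, `U₀ = C_U(C_{A₀}(X))` -/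
theorem lbB {U0 : Subgroup G} (hU0 : U0 = cl (zl (S : Subgroup G) P) P2 ⊓
      centralizer ((A ⊓ o2 P2 ⊓ centralizer (cl R P2 : Set G) : Subgroup G) : Set G))
    (hUX : U0 ≤ normalizer (cl R P2 : Set G)) : ∀ (n : ℕ) (B : Subgroup G), Nat.card B ≤ n → B ≤ A ⊓ o2 P2 →
    (centralizer (cl R P2 : Set G)).relIndex B ≤ (cmod U0 B (cl R P2) hUX).relIndex U0 := by
  intro n
  induction n with
  | zero =>
    intro B hB
    have := Nat.card_pos (α := B)
    omega
  | succ n ih =>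
    intro B hBn hB
    set X := cl R P2 with hX
    by_cases hBU : B ≤ centralizer (X : Set G)
    · rw [relIndex_eq_one.2 hBU]
      exact relIndex_pos _ _
    obtain ⟨y, hy, hBy⟩ : ∃ y ∈ P2, ¬ B ≤ centralizer ((cj y R : Subgroup G) : Set G) := by
      by_contra hcon
      push Not at hcon
      exact hBU (cent_symm (cl_le fun y hy => cent_symm (hcon y hy)))
    obtain ⟨b, hb, hbR⟩ := SetLike.not_le_iff_exists.1 hBy
    have l := h.loc hy
    obtain ⟨v, hv, hv3⟩ := l.exists_v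
    have hvU := h.cjV_le hy hv
    obtain ⟨f1, f2, -⟩ := h.fB hz o hy (hB hb) hbR hv hv3
    set B1 := B ⊓ centralizer ((cj y R : Subgroup G) : Set G) with hB1
    have hB1B : B1 ≤ B := inf_le_left
    have h1 : Nat.card B1 < Nat.card B := by
      refine lt_of_le_of_ne (Subgroup.card_le_of_le hB1B) fun h0 => ?_
      have h2 := Subgroup.eq_of_le_of_card_ge hB1B h0.ge
      exact hBy (inf_eq_left.1 h2)
    have h2 := ih B1 (by omega) (hB1B.trans hB)
    have h3 : B1.relIndex B ≤ 2 := by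
      rw [hB1, inf_relIndex_left]
      exact relIndex_le_two fun s hs t ht hsV htV => l.R_mul (hB hs).2 (hB ht).2 hsV htV
    have h4 := relIndex_mul_of (H := centralizer (X : Set G)) (M := B1) (L := B)
      (le_inf inf_le_left (inf_le_right.trans (centralizer_le (cj_le_cl hy)))) hB1B
    have hanti : cmod U0 B X hUX ≤ cmod U0 B1 X hUX := fun u hu => ⟨hu.1, fun c hc => hu.2 c (hB1B hc)⟩
    have h5 := relIndex_mul_relIndex (cmod U0 B X hUX) (cmod U0 B1 X hUX) U0 hanti (fun u hu => hu.1)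
    have h6 : 2 ≤ (cmod U0 B X hUX).relIndex (cmod U0 B1 X hUX) := by
      refine two_le_relIndex (v := v) ⟨?_, fun c hc => ?_⟩ fun h0 => f2 ?_
      · rw [hU0]
        refine ⟨hvU, mem_centralizer_iff.2 fun c hc => ?_⟩
        have h7 := h.centB hz o hy (hB hb) hbR hc.1 (centralizer_le (cj_le_cl hy) hc.2)
        exact (mem_centralizer_iff.1 h7 v hv).symm
      · have h7 := mem_centralizer_iff.1 (h.centB hz o hy (hB hb) hbR (hB (hB1B hc)) hc.2) v hv
        rw [← h7, mul_inv_cancel_right, mul_inv_cancel]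
        exact one_mem _
      · exact h.inf_X' hz hy (l.V3_le f1) (h0.2 b hb)
    rw [← h4, ← h5, mul_comm]
    exact Nat.mul_le_mul (h3.trans h6) h2

/-- **`A₀ ≰ C(X)` is impossible** -/
theorem falseB (hN : NoOv P2) (hAX : ¬ A ⊓ o2 P2 ≤ centralizer (cl R P2 : Set G)) : False := by
  set U := cl (zl (S : Subgroup G) P) P2 with hU
  set X := cl R P2 with hX
  set A0 := A ⊓ o2 P2 with hA0
  set C := centralizer (A : Set G) with hC
  set x := (o2 P2).relIndex A with hx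
  set C0 := A0 ⊓ centralizer (X : Set G) with hC0
  set r := (centralizer (X : Set G)).relIndex A0 with hr
  have hAP : A ≤ P2 := o.le.trans h.S_le
  have hXU : X ≤ U := h.X_le_U
  have hxpos : 0 < x := relIndex_pos _ _
  have hrpos : 0 < r := relIndex_pos _ _
  obtain ⟨U0, hU0⟩ : ∃ U0 : Subgroup G, U0 = U ⊓ centralizer (C0 : Set G) := ⟨_, rfl⟩
  have hU0U : U0 ≤ U := hU0.le.trans inf_le_left
  have hUX : U0 ≤ normalizer (X : Set G) := (hU0U.trans h.U_le_P2).trans h.X_norm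
  have h1 : r ≤ (cmod U0 A0 X hUX).relIndex U0 := h.lbB hz o hU0 hUX _ A0 le_rfl le_rfl
  have h2 : x * Nat.card A0 = Nat.card A := h.card_A A
  have h3 : r * Nat.card C0 = Nat.card A0 := relIndex_mul_card A0 (centralizer (X : Set G))
  have hC0A : C0 ≤ A := inf_le_left.trans inf_le_left
  have hAU : A ⊓ centralizer (U : Set G) ≤ C0 := fun a ha =>
    ⟨⟨ha.1, h.inf_cent_U ⟨o.le ha.1, ha.2⟩⟩, centralizer_le hXU ha.2⟩
  have hbest := o.max C0 hC0A
  rw [← hU, ← hU0, ← hC] at hbest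
  -- `|U₀|`
  set N := cmod U0 A0 X hUX with hNdef
  have hNU : N ≤ U0 := fun u hu => hu.1
  have h4 : N.relIndex U0 * Nat.card N = Nat.card U0 := by
    have := relIndex_mul_card U0 N
    rwa [inf_eq_right.2 hNU] at this
  have h5 : X ⊔ (U ⊓ C) ≤ N := by
    refine sup_le ?_ ?_
    · intro w hw
      refine ⟨?_, fun a ha => mul_mem (conj_mem' h.X_norm (hAP ha.1) hw) (inv_mem hw)⟩
      rw [hU0]
      exact ⟨hXU hw, cent_symm (inf_le_right : C0 ≤ centralizer (X : Set G)) hw⟩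
    · intro w hw
      refine ⟨?_, fun a ha => ?_⟩
      · rw [hU0]
        exact ⟨hw.1, centralizer_le hC0A hw.2⟩
      · have := mem_centralizer_iff.1 hw.2 a ha.1
        rw [this, mul_inv_cancel_right, mul_inv_cancel]
        exact one_mem _
  have h6 := card_sup_comm (A := X) (B := U ⊓ C) (fun a ha b hb => h.U_mul (hXU ha) hb.1)
  have h7 : X ⊓ (U ⊓ C) = X ⊓ C := by rw [← inf_assoc, inf_eq_left.2 hXU]
  have h8 : C.relIndex X * Nat.card ↥(X ⊓ C) = Nat.card X := relIndex_mul_card _ _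
  have h9 := Subgroup.card_le_of_le h5
  rw [h7] at h6
  -- `|X : C_X(A)| ≤ x`
  have h10 : C.relIndex X ≤ x := by
    have hp1 : 0 < Nat.card ↥(X ⊓ C) := Nat.card_pos
    have hp2 : 0 < Nat.card ↥(U ⊓ C) := Nat.card_pos
    have hp3 : 0 < Nat.card C0 := Nat.card_pos
    have h11 : C.relIndex X * Nat.card ↥(U ⊓ C) ≤ Nat.card N := by
      refine le_trans ?_ h9
      have h12 : Nat.card ↥(X ⊓ C) * (C.relIndex X * Nat.card ↥(U ⊓ C)) =
          Nat.card ↥(X ⊓ C) * Nat.card ↥(X ⊔ U ⊓ C) := by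
        rw [mul_comm (Nat.card ↥(X ⊓ C)) (Nat.card ↥(X ⊔ U ⊓ C)), h6, ← h8]
        ring
      exact (Nat.eq_of_mul_eq_mul_left hp1 h12).le
    have h12 : (Nat.card C0 * r * Nat.card ↥(U ⊓ C)) * C.relIndex X ≤ (Nat.card C0 * r * Nat.card ↥(U ⊓ C)) * x := by
      calc (Nat.card C0 * r * Nat.card ↥(U ⊓ C)) * C.relIndex X
          = Nat.card C0 * (r * (C.relIndex X * Nat.card ↥(U ⊓ C))) := by ring
        _ ≤ Nat.card C0 * (N.relIndex U0 * Nat.card N) :=
          Nat.mul_le_mul_left _ (Nat.mul_le_mul h1 h11)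
        _ = Nat.card C0 * Nat.card U0 := by rw [h4]
        _ ≤ Nat.card A * Nat.card ↥(U ⊓ C) := hbest
        _ = (x * (r * Nat.card C0)) * Nat.card ↥(U ⊓ C) := by rw [h3, h2]
        _ = _ := by ring
    exact Nat.le_of_mul_le_mul_left h12 (by positivity)
  -- `[w, A] ≤ ⟨z⟩` ⟹ `[w, A] = 1`
  obtain ⟨hA2, hAc⟩ := h.A_o2 o
  have hXz : X ≤ normalizer (zpowers z : Set G) := (hXU.trans h.U_le_P2).trans h.P2_zpowers
  have hzX : zpowers z ≤ X := h.zpowers_le_R.trans h.R_le_X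
  have h11 : x ≤ (cmod X A (zpowers z) hXz).relIndex X := by
    refine hN.gen hzX (hXU.trans h.U_le_P2) h.X_sq h.X_comm h.P2_zpowers h.X_norm ?_ hAP hA2 hAc (fun u hu => hu.1) ?_
    · intro h0
      apply h.E_R
      refine le_normalizer_of_forall fun e he r hr => ?_
      have h12 := inv_mem (h0 (commutator_mem_commutator (h.R_le_X hr) he))
      rw [commutatorElement_inv, commutatorElement_def] at h12
      have h13 := mul_mem (h.zpowers_le_R h12) hr
      rwa [inv_mul_cancel_right] at h13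
    · rw [commutator_le]
      intro d hd a ha
      have h6 := inv_mem (hd.2 a ha)
      have e : (a * d * a⁻¹ * d⁻¹)⁻¹ = ⁅d, a⁆ := by rw [commutatorElement_def]; group
      rwa [e] at h6
  have h12 : X ⊓ C = cmod X A (zpowers z) hXz := by
    refine eq_of_relIndex (fun w hw => ⟨hw.1, fun a ha => ?_⟩) (fun u hu => hu.1) ?_
    · have := mem_centralizer_iff.1 hw.2 a ha
      rw [this, mul_inv_cancel_right, mul_inv_cancel]
      exact one_mem _
    · rw [inf_relIndex_left]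
      exact h10.trans h11
  -- the contradiction
  obtain ⟨y, hy, hBy⟩ : ∃ y ∈ P2, ¬ A0 ≤ centralizer ((cj y R : Subgroup G) : Set G) := by
    by_contra hcon
    push Not at hcon
    exact hAX (cent_symm (cl_le fun y hy => cent_symm (hcon y hy)))
  obtain ⟨b, hb, hbR⟩ := SetLike.not_le_iff_exists.1 hBy
  have l := h.loc hy
  obtain ⟨v, hv, hv3⟩ := l.exists_v
  obtain ⟨f1, f2, f3⟩ := h.fB hz o hy hb hbR hv hv3
  have hz' : ¬ ∀ b ∈ o2 P2, ∀ v ∈ cj y V3, b * v * b⁻¹ * v⁻¹ ∈ zpowers z := fun h0 => hz ((h.hz_iff hy).1 h0)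
  apply hbR
  rw [mem_centralizer_iff]
  intro w hw
  have key : ∀ a ∈ A, ∀ w ∈ cj y R, a * w * a⁻¹ ∈ cj y R := by
    intro a ha
    have haP := hAP ha
    have hay : a⁻¹ * y ∈ P2 := mul_mem (inv_mem haP) hy
    have hW : o2 P2 ≤ normalizer ((cj (a⁻¹ * y) (zl (S : Subgroup G) P) : Subgroup G) : Set G) := by
      have h13 := cj_norm (g := a⁻¹ * y) (h.Q_le.trans h.mod.S_V)
      rwa [cj_of_le (le_normalizer_o2 P2) hay] at h13
    have hfW : b * v * b⁻¹ * v⁻¹ ∈ cj (a⁻¹ * y) (zl (S : Subgroup G) P) := by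
      rw [← cj_cj, mem_cj, inv_inv, mem_centralizer_iff.1 f3 a ha, mul_inv_cancel_right]
      exact l.V3_le f1
    have h13 := l.R_le_of hz' hW (h.loc hay).z_mem_V hfW f1 f2
    intro w hw
    have h14 := h.inf_X' hz hay (h13 hw) (cj_le_cl hy hw)
    rw [← cj_cj, mem_cj, inv_inv] at h14
    exact h14
  have h13 : w ∈ X ⊓ C := by
    rw [h12]
    refine ⟨cj_le_cl hy hw, fun a ha => ?_⟩
    exact l.R_norm (h.z_comm (hAP ha)) hw (key a ha w hw)
  exact (mem_centralizer_iff.1 h13.2 b hb.1).symm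

end quad

end B

/-- **one offender ⟹ `P₂ ≤ N_G(V₃)`** -/
theorem norm_V3 (hAS : FFBr.AStmt.{u}) {A : Subgroup G} (o : O5 S P P2 A) : P2 ≤ normalizer (V3 : Set G) := by
  have hN : NoOv P2 := noOv hAS h.syl h.par.toIsMinPar
  by_cases hz : ∀ b ∈ o2 P2, ∀ v ∈ V3, b * v * b⁻¹ * v⁻¹ ∈ zpowers z
  · exact h.normA hz o hN
  by_cases hAX : A ⊓ o2 P2 ≤ centralizer (cl R P2 : Set G)
  · by_cases hAU : A ⊓ o2 P2 ≤ centralizer (cl (zl (S : Subgroup G) P) P2 : Set G)
    · exact h.normB1 hz hN o hAU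
    · exact (h.false_Ry hN o hAX hAU).elim
  · exact (h.falseB hz o hN hAX).elim

/-- **one offender ⟹ `|S : O₂(P₂)| = 2`** -/
theorem two_of (hAS : FFBr.AStmt.{u}) {A : Subgroup G} (o : O5 S P P2 A) :
    (o2 P2).relIndex (S : Subgroup G) = 2 := h.index_of_V3 (h.norm_V3 hAS o)

end B5

end Cfsg.Agent.Omega.NO3S.Fld.WFour

end

section


/-!
# Fld, `q = 4`, one offender : the end

* `B5.norm_V` : **one offender `A ≰ O₂(P₂)` on all subgroups of `⟨V^P₂⟩` ⟹ `P₂ ≤ N_G(V)`** (and `A` moves `V`);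
* `B5.exists_four` : then some `P₁ ∈ P*(S)`, `P₁ ≤ P`, is nonlocal with `C_G(Z)`, `|V_{P₁}| = 4`.
-/

set_option autoImplicit false
set_option linter.unusedSectionVars false

namespace Cfsg.Agent.Omega.NO3S.Fld.WFour

open Subgroup Cfsg Cfsg.Agent.ZN Cfsg.Agent.ZN.ChoiceBase Cfsg.Agent.Omega.MinPar Cfsg.Agent.Omega.FrameNOFF
open Cfsg.Agent.ZN.ChoiceSit (Syl syl_iff syl_not_dvd o2_le_syl isPGroup_o2)
open Cfsg.Agent.MinSimple.MinParabolic (IsMinPar)
open Cfsg.Agent.MinSimple.VModule (oddGen oddGen_le mem_oddGen le_normalizer_oddGen le_normalizer_o2 o2_le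
  zc_le zc_le_zl le_normalizer_zl zc_sq zc_comm le_centralizer_zc)
open Cfsg.Agent.Omega.NO3b.EZero (cl cj_le_cl le_cl cl_le cj_cl le_normalizer_cl cent_symm cj_cent cj_norm
  sq_of_comm oddGen_sup_syl mem_cj_self relIndex_cj le_normalizer_inf_cent)
open Cfsg.Agent.Omega.NO3b.K0 (conj_mem' cj_of_le cj_self NoOv noOv)
open Cfsg.Agent.Omega.NO3S.NotFF (le_normalizer_of_forall normalizer_inf normalizer_sup normalizer_centralizer
  normalizer_commutator)
open Cfsg.Agent.Omega.SQ1.Bau (card_sup_comm mem_sup_comm)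
open Cfsg.Agent.Omega.NO1.BestOff (Best)
open Cfsg.Agent.Omega.FFThm (ElemM)
open scoped commutatorElement

universe u

open Cfsg.Agent.Omega.NatPair (ap ap_zero' ap_one' ext2)
open Cfsg.Agent.Lib.SL2Mat
open Cfsg.Agent.Omega.NO3S.Fld.DEight (of_sig_eq exists_ne)
open Cfsg.Agent.MinSimple.VModule (normalizer_le_normalizer_zc)

namespace B5

variable {G : Type u} [Group G] [Finite G] {S : Sylow 2 G} {P P2 R V3 : Subgroup G} {z : G}
  (h : B5 S P P2 R V3 z)
include h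

/-- the normal closure of `S` in `P₂` moves `R` -/
theorem moves : ∃ g ∈ P2, ∃ s ∈ (S : Subgroup G), g * s * g⁻¹ ∉ normalizer (R : Set G) := by
  by_contra hcon
  push Not at hcon
  have h1 : cl (S : Subgroup G) P2 ≤ normalizer (R : Set G) := by
    refine cl_le fun p hp => ?_
    rintro _ ⟨s, hs, rfl⟩
    exact hcon p hp s hs
  have h2 : cl (S : Subgroup G) P2 ≤ P2 := cl_le fun p hp => by
    have h3 := cj_mono p h.S_le
    rwa [cj_self hp] at h3
  rcases h.min_or h2 (le_normalizer_cl _ _) with h3 | h3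
  · exact h.E_R (h3.trans h1)
  · exact h.not_S_le ((le_inf le_rfl (le_cl _ _)).trans h3)

theorem sit (hidx : (o2 P2).relIndex (S : Subgroup G) = 2) :
    Dih.Sit (S : Subgroup G) P2 (o2 P2) (cl (zl (S : Subgroup G) P) P2) (zl (S : Subgroup G) P) R V3 z where
  mod := h.mod
  syl := h.syl
  Q_le := h.Q_le
  norm := le_normalizer_o2 P2
  idx := hidx
  cz := fun _ hg => h.z_comm hg
  U_le := h.U_le_S
  U_comm := h.U_comm
  conj_le := fun _ hg => cj_le_cl hg
  moves := h.moves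

/-- **dihedral lemma** -/
theorem dih (hidx : (o2 P2).relIndex (S : Subgroup G) = 2) {A : Subgroup G} (hA : A ≤ (S : Subgroup G))
    (he : ElemM (cl (zl (S : Subgroup G) P) P2) A)
    (hoff : ∀ Y ≤ cl (zl (S : Subgroup G) P) P2,
      (centralizer (A : Set G)).relIndex Y ≤ (centralizer (Y : Set G)).relIndex A)
    (hAV : A ≤ centralizer (zl (S : Subgroup G) P : Set G)) : A ≤ o2 P2 := by
  by_contra hcon
  exact LDih.false_of (h.sit hidx) h.U_norm h.inf_cent_U hA he.sq he.comm hoff hAV hcon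

/-- `|V : C_V(A)| = 4 = |A : C_A(V)|` if `A` moves `V` -/
theorem root {A : Subgroup G} (o : O5 S P P2 A) (hAV : ¬ A ≤ centralizer (zl (S : Subgroup G) P : Set G)) :
    (centralizer (A : Set G)).relIndex (zl (S : Subgroup G) P) = 4 ∧
      (centralizer (zl (S : Subgroup G) P : Set G)).relIndex A = 4 := by
  obtain ⟨b, hb, hbV⟩ := SetLike.not_le_iff_exists.1 hAV
  have h1 := h.fix4 b (o.le hb) hbV
  have h3 : zl (S : Subgroup G) P ⊓ centralizer (A : Set G) ≤ zl (S : Subgroup G) P ⊓ centralizer ({b} : Set G) :=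
    inf_le_inf_left _ (centralizer_le (Set.singleton_subset_iff.2 hb))
  have h4 : Nat.card ↥(zl (S : Subgroup G) P ⊓ centralizer (A : Set G)) ≤ 4 := (Subgroup.card_le_of_le h3).trans h1
  have h6 := relIndex_mul_card (zl (S : Subgroup G) P) (centralizer (A : Set G))
  rw [h.mod.card] at h6
  have h7 : 4 ≤ (centralizer (A : Set G)).relIndex (zl (S : Subgroup G) P) := by
    by_contra hcon
    push Not at hcon
    have h8 := Nat.mul_le_mul (Nat.le_of_lt_succ hcon) h4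
    omega
  have h8 := o.off _ h.V_le_U
  have h9 := h.mod.le4 A o.le ⟨fun a ha => centralizer_le h.V_le_U (o.elem.sq a ha),
    fun a ha b hb => centralizer_le h.V_le_U (o.elem.comm a ha b hb)⟩
  omega

/-- `C_Q(X) = C_Q(U)` if `V₃ ≤ X` -/
theorem cent_U_of_X (hX : V3 ≤ cl R P2) {q : G} (hq : q ∈ o2 P2) (hqX : q ∈ centralizer (cl R P2 : Set G)) :
    q ∈ centralizer (cl (zl (S : Subgroup G) P) P2 : Set G) := by
  have h1 : o2 P2 ⊓ centralizer (cl R P2 : Set G) ≤ centralizer (zl (S : Subgroup G) P : Set G) :=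
    fun x hx => h.mod.faith x (h.Q_le hx.1) (centralizer_le hX hx.2)
  have h2 : P2 ≤ normalizer ((o2 P2 ⊓ centralizer (cl R P2 : Set G) : Subgroup G) : Set G) :=
    normalizer_inf (le_normalizer_o2 P2) (normalizer_centralizer h.X_norm)
  have h3 : cl (zl (S : Subgroup G) P) P2 ≤ centralizer ((o2 P2 ⊓ centralizer (cl R P2 : Set G) : Subgroup G) : Set G) :=
    cl_le fun p hp => by
      have h4 := cj_cent (g := p) (cent_symm h1)
      rwa [cj_of_le h2 hp] at h4
  exact cent_symm h3 ⟨hq, hqX⟩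

/-- `X = V₃` if `P₂ ≤ N_G(V₃)` -/
theorem X_eq (hn : P2 ≤ normalizer (V3 : Set G)) : cl R P2 = V3 := by
  have h1 : cl R P2 ≤ V3 := cl_le fun p hp => by
    have h2 := cj_mono p h.mod.R_le
    rwa [cj_of_le hn hp] at h2
  rcases h.mod.uni _ (h1.trans h.mod.V3_le) (h.S_le.trans h.X_norm) with h2 | h2 | h2 | h2 | h2
  · exact absurd (h2 ▸ h.R_le_X h.z_mem_R) (by rw [mem_bot]; exact h.mod.z_ne)
  · exfalso
    have h3 := Subgroup.card_le_of_le h.R_le_X
    rw [h2, h.mod.cardR, Nat.card_zpowers, orderOf_eq_prime (by rw [pow_two]; exact h.z_sq) h.mod.z_ne] at h3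
    omega
  · exfalso
    apply h.mv
    have h3 := h.X_norm
    rwa [h2] at h3
  · exact h2
  · exact le_antisymm h1 (h.mod.V3_le.trans h2.ge)

/-- `C_A(V)` offends on all subgroups of `U` -/
theorem off_inf {A : Subgroup G} (o : O5 S P P2 A) (hAV : ¬ A ≤ centralizer (zl (S : Subgroup G) P : Set G))
    {Y : Subgroup G} (hY : Y ≤ cl (zl (S : Subgroup G) P) P2) :
    (centralizer ((A ⊓ centralizer (zl (S : Subgroup G) P : Set G) : Subgroup G) : Set G)).relIndex Y ≤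
      (centralizer (Y : Set G)).relIndex (A ⊓ centralizer (zl (S : Subgroup G) P : Set G)) := by
  obtain ⟨r1, r2⟩ := h.root o hAV
  set U := cl (zl (S : Subgroup G) P) P2 with hU
  set V := zl (S : Subgroup G) P with hV
  set A2 := A ⊓ centralizer (V : Set G) with hA2
  set C := centralizer (A : Set G) with hC
  set C2 := centralizer (A2 : Set G) with hC2
  set Y' := Y ⊔ (V ⊔ (U ⊓ C)) with hY'
  have hVY : V ≤ Y' := le_sup_left.trans le_sup_right
  have hYU : Y' ≤ U := sup_le hY (sup_le h.V_le_U inf_le_left)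
  have h1 := o.off Y' hYU
  have h2 : (centralizer (Y' : Set G)).relIndex A2 * A2.relIndex A = (centralizer (Y' : Set G)).relIndex A :=
    relIndex_mul_of (fun a ha => ⟨ha.1, centralizer_le hVY ha.2⟩) inf_le_left
  have h3 : A2.relIndex A = 4 := by rw [hA2, inf_relIndex_left]; exact r2
  have h4 : C.relIndex (Y' ⊓ C2) * (Y' ⊓ C2).relIndex Y' = C.relIndex Y' :=
    relIndex_mul_of (fun y hy => (⟨hy.1, centralizer_le inf_le_left hy.2⟩ : y ∈ Y' ⊓ C2)) inf_le_left
  rw [inf_relIndex_left] at h4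
  have h5 : 4 ≤ C.relIndex (Y' ⊓ C2) := by
    rw [← r1]
    exact relIndex_le_of_le_right (le_inf hVY (cent_symm inf_le_right)) (relIndex_pos _ _).ne'
  have h6 : C2.relIndex Y' ≤ (centralizer (Y' : Set G)).relIndex A2 := by
    have h7 : 4 * C2.relIndex Y' ≤ 4 * (centralizer (Y' : Set G)).relIndex A2 := by
      calc 4 * C2.relIndex Y' ≤ C.relIndex (Y' ⊓ C2) * C2.relIndex Y' := Nat.mul_le_mul_right _ h5
        _ = C.relIndex Y' := h4
        _ ≤ (centralizer (Y' : Set G)).relIndex A := h1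
        _ = (centralizer (Y' : Set G)).relIndex A2 * 4 := by rw [← h2, h3]
        _ = _ := mul_comm _ _
    exact Nat.le_of_mul_le_mul_left h7 (by norm_num)
  have h7 : C2.relIndex Y ≤ C2.relIndex Y' := relIndex_le_of_le_right le_sup_left (relIndex_pos _ _).ne'
  have h8 : (centralizer (Y' : Set G)).relIndex A2 = (centralizer (Y : Set G)).relIndex A2 := by
    rw [← inf_relIndex_left A2, ← inf_relIndex_left A2 (centralizer (Y : Set G))]
    congr 1
    apply le_antisymm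
    · exact inf_le_inf_left _ (centralizer_le (show (Y : Set G) ⊆ (Y' : Set G) from (le_sup_left : Y ≤ Y')))
    · refine le_inf inf_le_left ?_
      apply cent_symm
      refine sup_le (cent_symm inf_le_right) (sup_le ?_ ?_)
      · exact cent_symm (inf_le_left.trans inf_le_right)
      · exact inf_le_right.trans (centralizer_le (inf_le_left.trans inf_le_left))
  rw [← h8]
  exact h7.trans h6

/-- `C_U(C_A(V)) = V C_U(A)` -/
theorem cU_inf {A : Subgroup G} (o : O5 S P P2 A) (hAV : ¬ A ≤ centralizer (zl (S : Subgroup G) P : Set G)) :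
    cl (zl (S : Subgroup G) P) P2 ⊓
        centralizer ((A ⊓ centralizer (zl (S : Subgroup G) P : Set G) : Subgroup G) : Set G) ≤
      zl (S : Subgroup G) P ⊔ (cl (zl (S : Subgroup G) P) P2 ⊓ centralizer (A : Set G)) := by
  obtain ⟨r1, r2⟩ := h.root o hAV
  set U := cl (zl (S : Subgroup G) P) P2 with hU
  set V := zl (S : Subgroup G) P with hV
  set A2 := A ⊓ centralizer (V : Set G) with hA2
  set C := centralizer (A : Set G) with hC
  set Y := U ⊓ centralizer (A2 : Set G) with hY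
  have hVY : V ≤ Y := le_inf h.V_le_U (cent_symm inf_le_right)
  have hMY : V ⊔ (U ⊓ C) ≤ Y := sup_le hVY (inf_le_inf_left _ (centralizer_le inf_le_left))
  have h1 : C.relIndex Y ≤ 4 := by
    refine (o.off Y inf_le_left).trans ?_
    rw [← r2, ← inf_relIndex_left A (centralizer (V : Set G))]
    exact Nat.le_of_dvd (relIndex_pos _ _) (relIndex_dvd_of_le_left A (cent_symm inf_le_right))
  have h2 : Y ⊓ C ≤ V ⊔ (U ⊓ C) := le_trans (fun y hy => (⟨hy.1.1, hy.2⟩ : y ∈ U ⊓ C)) le_sup_right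
  have h3 := relIndex_mul_of (H := C) h2 hMY
  have h4 : 4 ≤ C.relIndex (V ⊔ (U ⊓ C)) := by
    rw [← r1]
    exact relIndex_le_of_le_right le_sup_left (relIndex_pos _ _).ne'
  have h5 := relIndex_pos (V ⊔ (U ⊓ C)) Y
  have h7 : (V ⊔ (U ⊓ C)).relIndex Y = 1 := by
    by_contra hcon
    have h8 : 2 ≤ (V ⊔ (U ⊓ C)).relIndex Y := by omega
    have h9 := Nat.mul_le_mul h4 h8
    omega
  exact relIndex_eq_one.1 h7

/-- an offender `A ≰ O₂(P₂)` moves `V` -/
theorem moves_V (hAS : FFBr.AStmt.{u}) {A : Subgroup G} (o : O5 S P P2 A) :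
    ¬ A ≤ centralizer (zl (S : Subgroup G) P : Set G) := fun h0 =>
  o.nQ (h.dih (h.two_of hAS o) o.le o.elem o.off h0)

/-- **THEOREM: one offender `A ≰ O₂(P₂)` ⟹ `P₂ ≤ N_G(V)`** -/
theorem norm_V (hAS : FFBr.AStmt.{u}) {A : Subgroup G} (o : O5 S P P2 A) :
    P2 ≤ normalizer (zl (S : Subgroup G) P : Set G) := by
  have hn := h.norm_V3 hAS o
  have hidx := h.two_of hAS o
  have hAV := h.moves_V hAS o
  have hX := h.X_eq hn
  set A2 := A ⊓ centralizer (zl (S : Subgroup G) P : Set G) with hA2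
  have h1 : A2 ≤ o2 P2 := h.dih hidx (inf_le_left.trans o.le)
    { sq := fun a ha => o.elem.sq a ha.1
      comm := fun a ha b hb => o.elem.comm a ha.1 b hb.1 } (fun Y hY => h.off_inf o hAV hY) inf_le_right
  have h2 : A2 ≤ centralizer (cl (zl (S : Subgroup G) P) P2 : Set G) := fun a ha =>
    h.cent_U_of_X hX.ge (h1 ha) (by rw [hX]; exact centralizer_le h.mod.V3_le ha.2)
  have h3 : cl (zl (S : Subgroup G) P) P2 ≤
      zl (S : Subgroup G) P ⊔ (cl (zl (S : Subgroup G) P) P2 ⊓ centralizer (A : Set G)) :=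
    (le_inf le_rfl (cent_symm h2)).trans (h.cU_inf o hAV)
  -- `A` acts trivially on `U / X`
  have h4 : oddGen P2 ≤ kmod P2 (cl (zl (S : Subgroup G) P) P2) (cl R P2) h.U_norm h.X_norm := by
    rcases h.min_or (kmod_le (h1 := h.U_norm) (h2 := h.X_norm)) h.kmod_UX_norm with h5 | h5
    · exact h5
    · exfalso
      apply o.nQ
      refine le_trans (fun a ha => ?_) h5
      have haP := h.S_le (o.le ha)
      refine ⟨o.le ha, haP, fun u hu => ?_⟩
      have hcom : ∀ p ∈ zl (S : Subgroup G) P, ∀ q ∈ cl (zl (S : Subgroup G) P) P2 ⊓ centralizer (A : Set G),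
          p * q = q * p := fun p hp q hq => h.U_mul (h.V_le_U hp) hq.1
      obtain ⟨v, hv, c, hc, rfl⟩ := mem_sup_comm hcom (h3 hu)
      rw [h.comm_mul haP (h.V_le_U hv) hc.1]
      have h10 := mem_centralizer_iff.1 hc.2 a ha
      rw [h10, mul_inv_cancel_right, mul_inv_cancel, mul_one, hX]
      exact h.comm_VS (o.le ha) hv
  refine h.sup_S.ge.trans (sup_le ?_ h.mod.S_V)
  refine le_normalizer_of_forall fun e he v hv => ?_
  have h6 := (h4 he).2 v (h.V_le_U hv)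
  rw [hX] at h6
  have h7 := mul_mem (h.mod.V3_le h6) hv
  rwa [inv_mul_cancel_right] at h7

theorem sylP : Syl (S : Subgroup G) P := h.hyp.syl

theorem S_le_P : (S : Subgroup G) ≤ P := h.sylP.1

section crd

variable {F : Type*} [Field F] [CharP F 2] (M : Crd F (S : Subgroup G) P (zl (S : Subgroup G) P))
  (hF : Nat.card F = 4) (hMR : M.R = R)
include hF hMR

theorem exists_fld : ∃ s ∈ (S : Subgroup G), ∃ σ c, M.Act s σ c ∧ σ ≠ RingEquiv.refl F := by
  obtain ⟨s, hs, hsR⟩ := SetLike.not_le_iff_exists.1 h.mod.fld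
  obtain ⟨σ, c, h1⟩ := M.exists_act hs
  refine ⟨s, hs, σ, c, h1, fun h0 => hsR ?_⟩
  rw [← hMR]
  exact h1.mem_centR.2 h0

theorem zz_eq : FourEnd.zz M = z := by
  have hz := h.z_mem_R
  rw [← hMR] at hz
  obtain ⟨a, ha⟩ := hz
  obtain ⟨s, hs, σ, c, h1, hσ⟩ := h.exists_fld M hF hMR
  have h2 := h1 ![a, 0]
  rw [ha] at h2
  have h3 := h.z_comm (h.S_le hs)
  rw [h3, mul_inv_cancel_right, ← ha] at h2
  have h4 := congrFun (M.e_inj h2) 0
  simp only [Matrix.cons_val_zero] at h4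
  have h5 : a = σ a := by simpa using h4
  rcases of_sig_eq hF hσ h5.symm with h6 | h6
  · exfalso
    apply h.mod.z_ne
    rw [← ha, h6, ← M.e_zero]
    congr 1
    apply ext2 <;> simp
  · rw [← ha, h6]
    rfl

/-- **`P₂ ≤ N_G(V)` gives a `P₁` with `|V_{P₁}| = 4`** -/
theorem exists_four (hV : P2 ≤ normalizer (zl (S : Subgroup G) P : Set G)) :
    ∃ P1 : Subgroup G, IsParS (S : Subgroup G) P1 ∧ P1 ≤ P ∧ NonLoc P1 (CZ (S : Subgroup G)) ∧
      Nat.card (zl (S : Subgroup G) P1) = 4 := by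
  have hz := h.zz_eq M hF hMR
  have hfld := h.exists_fld M hF hMR
  have hPV : P ≤ normalizer (zl (S : Subgroup G) P : Set G) := le_normalizer_zl _ _
  have hP2H : P2 ≤ FourEnd.HH M := by
    intro p hp
    rw [FourEnd.mem_HH]
    refine ⟨hV hp, ?_⟩
    rw [hz]
    exact h.z_comm hp
  have hR : ¬ FourEnd.HH M ≤ normalizer (M.R : Set G) := by
    intro h0
    apply h.mv
    rw [← hMR]
    exact hP2H.trans h0
  have h3 := FourEnd.not_V3 M hPV hF hR
  have hfus : ∀ x y : Fin 2 → F, M.e x ∉ zpowers z → M.e y ∉ zpowers z → FourEnd.Fus M (M.e x) (M.e y) := by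
    intro x y hx hy
    rw [← hz] at hx hy
    exact FourEnd.fus M hF hfld hR h3 hx hy
  -- the torus
  obtain ⟨w, hw0, hw1⟩ := exists_ne hF
  obtain ⟨k, hkP, hk⟩ := M.lift (dg w hw0)
  have hk' : ∀ x : Fin 2 → F, k * M.e x * k⁻¹ = M.e ![w * x 0, w⁻¹ * x 1] := by
    intro x
    rw [hk]
    congr 1
    apply ext2
    · rw [ap_zero', dg, mk_00, mk_01]; simp
    · rw [ap_one', dg, mk_10, mk_11]; simp
  have hkR : k ∈ normalizer (R : Set G) := by
    rw [← hMR, mem_normalizer_iff_cj]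
    refine Subgroup.eq_of_le_of_card_ge ?_ ?_
    · rintro _ ⟨r, ⟨a, rfl⟩, rfl⟩
      show k * M.e ![a, 0] * k⁻¹ ∈ M.R
      rw [hk', M.e_mem_R]
      simp
    · rw [card_cj]
  have hL : IsLoc (S : Subgroup G) (P ⊓ normalizer (R : Set G)) :=
    h.hyp.star.isLoc.of_le S (le_inf h.S_le_P h.mod.S_R) inf_le_left
  have hLn : ¬ P ⊓ normalizer (R : Set G) ≤ normalizer (zc (S : Subgroup G) : Set G) := by
    intro h0
    have hkk : k ∈ P ⊓ normalizer (R : Set G) := ⟨hkP, hkR⟩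
    have hzz : z ∈ zc (S : Subgroup G) := by rw [h.zS]; exact mem_zpowers z
    have h1 := conj_mem' h0 hkk hzz
    rw [h.zS, ← hz, FourEnd.zz, hk'] at h1
    have h2 := (FourEnd.e_mem_zpowers M).1 h1
    simp only [Matrix.cons_val_zero, mul_one] at h2
    rcases h2.2 with h3 | h3
    · exact hw0 h3
    · exact hw1 h3
  obtain ⟨P1, hP1, hP1L, hP1n⟩ := IsLoc.exists_not_le S hL (inf_le_right.trans (normalizer_le_normalizer_zc _)) hLn
  have hP1S : IsParS (S : Subgroup G) P1 := ⟨hP1, hP1n⟩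
  have hP1P : P1 ≤ P := hP1L.trans inf_le_left
  have hP1R : P1 ≤ normalizer (R : Set G) := hP1L.trans inf_le_right
  refine ⟨P1, hP1S, hP1P, ?_, ?_⟩
  · intro U hU hU1 hU2
    refine h.hyp.nonLoc U hU (hPV.trans ?_) hU2
    obtain ⟨p, hp, hpz⟩ : ∃ p ∈ P1, p * z * p⁻¹ ∉ zpowers z := by
      by_contra hcon
      push Not at hcon
      apply hP1n
      rw [h.zS]
      refine le_normalizer_of_forall fun g hg v hv => ?_
      rcases h.mem_zpowers_iff'.1 hv with rfl | rfl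
      · rw [mul_one, mul_inv_cancel]
        exact one_mem _
      · exact hcon g hg
    have hHU : FourEnd.HH M ≤ normalizer (U : Set G) := by
      intro g hg
      apply hU2
      rw [mem_centralizer_iff]
      intro v hv
      rw [h.zS] at hv
      have hc : g * z = z * g := by
        have := ((FourEnd.mem_HH M).1 hg).2
        rwa [hz] at this
      rcases h.mem_zpowers_iff'.1 hv with rfl | rfl
      · rw [one_mul, mul_one]
      · exact hc.symm
    intro g hg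
    obtain ⟨y, hy⟩ := FourEnd.exists_y M hg ![1, 0]
    have hzg : g * z * g⁻¹ = M.e y := by rw [← hz]; exact hy
    by_cases hyz : M.e y ∈ zpowers z
    · apply hHU
      rw [FourEnd.mem_HH, hz]
      refine ⟨hg, ?_⟩
      rcases h.mem_zpowers_iff'.1 hyz with h4 | h4
      · rw [h4, conj_eq_one_iff] at hzg
        exact absurd hzg h.mod.z_ne
      · rw [h4, mul_inv_eq_iff_eq_mul] at hzg
        exact hzg
    · obtain ⟨x, hx⟩ := FourEnd.exists_y M (hPV (hP1P hp)) ![1, 0]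
      have hzp : p * z * p⁻¹ = M.e x := by rw [← hz]; exact hx
      rw [hzp] at hpz
      obtain ⟨c, hc, hcx⟩ := hfus x y hpz hyz
      have h5 : g⁻¹ * c * p ∈ FourEnd.HH M := by
        rw [FourEnd.mem_HH, hz]
        refine ⟨mul_mem (mul_mem (inv_mem hg) ((FourEnd.mem_HH M).1 hc).1) (hPV (hP1P hp)), ?_⟩
        rw [← mul_inv_eq_iff_eq_mul]
        have e1 : g⁻¹ * c * p * z * (g⁻¹ * c * p)⁻¹ = g⁻¹ * (c * (p * z * p⁻¹) * c⁻¹) * g := by group
        rw [e1, hzp, hcx, ← hzg]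
        group
      have e2 : g = c * p * (g⁻¹ * c * p)⁻¹ := by group
      rw [e2]
      exact mul_mem (mul_mem (hHU hc) (hU1 hp)) (inv_mem (hHU h5))
  · have h4 : zl (S : Subgroup G) P1 ≤ R := by
      refine iSup_le fun g => ?_
      have h5 : (zc (S : Subgroup G)).map (MulAut.conj (g : G)).toMonoidHom = cj (g : G) (zc (S : Subgroup G)) := rfl
      rw [h5, h.zS]
      have h6 := cj_mono (g : G) h.zpowers_le_R
      rwa [cj_of_le hP1R g.2] at h6
    have h5 : zpowers z ≤ zl (S : Subgroup G) P1 := by rw [← h.zS]; exact zc_le_zl _ _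
    have h6 : Nat.card (zpowers z) = 2 := by
      rw [Nat.card_zpowers]
      exact orderOf_eq_prime (by rw [pow_two]; exact h.z_sq) h.mod.z_ne
    have h7 : 2 < Nat.card (zl (S : Subgroup G) P1) := by
      by_contra hcon
      push Not at hcon
      have h8 : zpowers z = zl (S : Subgroup G) P1 := Subgroup.eq_of_le_of_card_ge h5 (by rw [h6]; exact hcon)
      apply hP1n
      rw [h.zS, h8]
      exact le_normalizer_zl _ _
    have h8 : Nat.card (zl (S : Subgroup G) P1) ∣ 4 := by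
      rw [← h.mod.cardR]
      exact card_dvd_of_le h4
    have h9 : Nat.card (zl (S : Subgroup G) P1) ≤ 4 := Nat.le_of_dvd (by norm_num) h8
    interval_cases hc : Nat.card (zl (S : Subgroup G) P1)
    · exact absurd h8 (by decide)
    · rfl

end crd

end B5

end Cfsg.Agent.Omega.NO3S.Fld.WFour

end
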